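import Groth.Agent.Lib.CurveOm17.CliffordEq
import Groth.Agent.Lib.CurveOm17.Apps
import Groth.Agent.Lib.RigidRel.Unital.Grp

/-!
# Curves of Clifford index one: basic numerics
-/

set_option linter.style.haveILetI false
set_option autoImplicit false

universe u

open CategoryTheory TopologicalSpace Opposite CategoryTheory.Limits AlgebraicGeometry

namespace Groth.Agent.Cliff17

open Groth.Agent.M1 Groth.Agent.M2 Groth.Agent.CurveCoh17

variable (k : Type u) [Field k] (X : Scheme.{u}) [X.Over (Spec (CommRingCat.of k))]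

/-- Clifford's inequality is strict away from the ends. -/
abbrev NH : Prop := ∀ N : X.Modules, PicF.IsInvertible N → 1 ≤ Module.finrank k (Coh.HH X N 0) →
  1 ≤ Module.finrank k (Coh.HH X N 1) → 0 < Curv2.deg k X N 1 →
  Curv2.deg k X N 1 < 2 * (Curv2.genus k X : ℤ) - 2 →
  2 * (Module.finrank k (Coh.HH X N 0) : ℤ) ≤ Curv2.deg k X N 1 + 1

/-- There is no pencil of degree three. -/
abbrev NT : Prop := ∀ N : X.Modules, PicF.IsInvertible N → Curv2.deg k X N 1 = 3 →
  Module.finrank k (Coh.HH X N 0) ≤ 1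

variable {k X} [IsAlgClosed k] [IsIntegral X] [IsProper (X ↘ Spec (CommRingCat.of k))]
  [Smooth (X ↘ Spec (CommRingCat.of k))]

theorem rr_nat (hdim : topologicalKrullDim X = 1) {N : X.Modules} (hN : PicF.IsInvertible N) :
    (Module.finrank k (Coh.HH X N 0) : ℤ) - Module.finrank k (Coh.HH X N 1) =
      Curv2.deg k X N 1 + 1 - Curv2.genus k X := by
  obtain ⟨hX, h0, -⟩ := VB17.setup (k := k) (X := X) hdim
  haveI := hX.like.noetherian
  have h := hX.like.rr (isCoh_of_ofRank ((isInvertible_iff_isFinLocFreeOfRank_one N).1 hN))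
  rw [h0] at h
  push_cast at h
  omega

theorem clifford_le (hdim : topologicalKrullDim X = 1) {N : X.Modules} (hN : PicF.IsInvertible N)
    (h1 : 1 ≤ Module.finrank k (Coh.HH X N 0)) (h2 : 1 ≤ Module.finrank k (Coh.HH X N 1)) :
    2 * (Module.finrank k (Coh.HH X N 0) : ℤ) ≤ Curv2.deg k X N 1 + 2 := by
  obtain ⟨hX, h0, -⟩ := VB17.setup (k := k) (X := X) hdim
  haveI := hX.like.noetherian
  have hR := rkOne_of_invertible hX.like.dim hN
  haveI := hX.like.fin N hR.coh 0
  haveI := hX.like.fin N hR.coh 1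
  have h := hX.like.clifford hR ((Module.finrank_pos_iff (R := k)).1 (show 0 < Module.finrank k (Coh.HH X N 0) by omega))
    ((Module.finrank_pos_iff (R := k)).1 (show 0 < Module.finrank k (Coh.HH X N 1) by omega))
  rw [h0] at h
  push_cast at h
  linarith

/-- No pencil of degree two gives strictness. -/
theorem nh_of_no_g12 (hdim : topologicalKrullDim X = 1) {W : X.Modules} {lam : Module.Dual k (Coh.HH X W 1)}
    (hW : VB17.IsDualizing k W lam) (h : ∀ N : X.Modules, PicF.IsInvertible N → Curv2.deg k X N 1 = 2 →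
      Module.finrank k (Coh.HH X N 0) ≤ 1) : NH k X := fun N hN h1 h2 h3 h4 => by
  have := clifford_le hdim hN h1 h2
  by_contra hne
  obtain ⟨P, hP, hd, hh⟩ := CurveOm17.exists_g12_of_clifford_eq hdim hW hN (by omega) h3 h4
  have := h P hP hd
  omega

/-- `h⁰ ≤ 1` in degree at most one. -/
theorem h0_le_one (hdim : topologicalKrullDim X = 1) (hg : 2 ≤ Curv2.genus k X) (nh : NH k X) {N : X.Modules}
    (hN : PicF.IsInvertible N) (hd : Curv2.deg k X N 1 ≤ 1) : Module.finrank k (Coh.HH X N 0) ≤ 1 := by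
  by_contra hne
  obtain ⟨hX, h0, -⟩ := VB17.setup (k := k) (X := X) hdim
  haveI := hX.like.noetherian
  haveI := hX.like.fin N (isCoh_of_ofRank ((isInvertible_iff_isFinLocFreeOfRank_one N).1 hN)) 0
  by_cases h1 : Curv2.deg k X N 1 = 1
  · have := rr_nat (k := k) hdim hN
    have := nh N hN (by omega) (by omega) (by omega) (by omega)
    omega
  · obtain ⟨i⟩ := CurveOm17.nonempty_iso_of_deg_nonpos hX hN (by omega)
      (Module.finrank_pos_iff.1 (show 0 < Module.finrank k (Coh.HH X N 0) by omega))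
    rw [← (hequiv k i 0).finrank_eq, h0] at hne
    omega

/-- The residual module. -/
theorem exists_residual (hdim : topologicalKrullDim X = 1) {W : X.Modules} {lam : Module.Dual k (Coh.HH X W 1)}
    (hW : VB17.IsDualizing k W lam) {L : X.Modules} (hL : PicF.IsInvertible L) :
    ∃ M : X.Modules, PicF.IsInvertible M ∧
      Curv2.deg k X M 1 = 2 * (Curv2.genus k X : ℤ) - 2 - Curv2.deg k X L 1 ∧
      Module.finrank k (Coh.HH X L 1) = Module.finrank k (Coh.HH X M 0) ∧
      Nonempty (CohB1.tensorMod L M ≅ W) := by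
  obtain ⟨hX, h0, hbig⟩ := VB17.setup (k := k) (X := X) hdim
  haveI := hX.like.noetherian
  obtain ⟨L', hL', ⟨eL⟩⟩ := exists_inverse hL
  refine ⟨CohB1.tensorMod W L', isInvertible_tensor hW.inv hL', ?_,
    hW.finrank_h1 hX h0 hbig hL hL' (tensorComm _ _ ≪≫ eL), ⟨tensorComm _ _ ≪≫ tensorAssoc _ _ _ ≪≫
      tensorIso (Iso.refl W) (tensorComm _ _ ≪≫ eL) ≪≫ tensorRUnit W⟩⟩
  rw [hX.like.deg_tensor_invertible hW.inv hL', (hW.invariants hX h0 hbig).2.2,
    hX.like.deg_of_tensor_iso hL hL' eL]
  ring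

/-- `h¹` does not increase along monomorphisms of invertible modules. -/
theorem h1_le_of_mono (hdim : topologicalKrullDim X = 1) {N L : X.Modules} (hN : PicF.IsInvertible N)
    (hL : PicF.IsInvertible L) (f : N ⟶ L) [Mono f] :
    Module.finrank k (Coh.HH X L 1) ≤ Module.finrank k (Coh.HH X N 1) := by
  obtain ⟨hX, -, -⟩ := VB17.setup (k := k) (X := X) hdim
  haveI := hX.like.noetherian
  haveI := hX.like.fin N (isCoh_of_ofRank ((isInvertible_iff_isFinLocFreeOfRank_one N).1 hN)) 1
  exact LinearMap.finrank_le_finrank_of_surjective (f := hmap k f 1)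
    (VB17.h1_surjective_of_mono hX ((isInvertible_iff_isFinLocFreeOfRank_one N).1 hN)
      ((isInvertible_iff_isFinLocFreeOfRank_one L).1 hL) f)

end Groth.Agent.Cliff17
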