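import Groth.Agent.Lib.Cliff17.Basic
import Groth.Agent.Lib.DMon9.Mod
import Mathlib.FieldTheory.IsAlgClosed.Basic

/-!
# A plane quintic spans six dimensions of quadrics
-/

set_option linter.style.haveILetI false
set_option autoImplicit false
set_option maxHeartbeats 800000

universe u

open CategoryTheory TopologicalSpace Opposite CategoryTheory.Limits AlgebraicGeometry

namespace Groth.Agent.Cliff17

open Groth.Agent.M1 Groth.Agent.M2 Groth.Agent.CurveCoh17

variable {k : Type u} [Field k] {X : Scheme.{u}} [X.Over (Spec (CommRingCat.of k))]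

theorem germ_tsec_comm {L : X.Modules} (hL : PicF.IsInvertible L) {U : X.Opens} (a b : Γ(L, U)) :
    tsec L L a b = tsec L L b a := by
  refine M1.section_ext _ _ fun x hx => ?_
  refine (stalkEquiv L L x).injective ?_
  rw [stalkEquiv_tsec, stalkEquiv_tsec]
  obtain ⟨q⟩ := nonempty_stalk_equiv ((isInvertible_iff_isFinLocFreeOfRank_one L).1 hL) x
  have hdec : ∀ w : L.presheaf.stalk x, w = q w 0 • q.symm 1 := fun w => q.injective (funext fun i => by
    rw [Fin.fin_one_eq_zero i, map_smul, LinearEquiv.apply_symm_apply, Pi.smul_apply, Pi.one_apply, smul_eq_mul,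
      mul_one])
  rw [hdec (L.presheaf.germ U x hx a), hdec (L.presheaf.germ U x hx b), TensorProduct.smul_tmul_smul,
    TensorProduct.smul_tmul_smul, mul_comm]

/-- Multiplication of global sections. -/
noncomputable def mul2 (k : Type u) [Field k] [X.Over (Spec (CommRingCat.of k))] (L M : X.Modules) :
    Coh.HH X L 0 →ₗ[k] Coh.HH X M 0 →ₗ[k] Coh.HH X (CohB1.tensorMod L M) 0 :=
  LinearMap.mk₂ k (fun a b => (hh0 _).symm (tsec L M (hh0 L a) (hh0 M b)))
    (fun a a' b => by rw [map_add, tsec_add_left, map_add])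
    (fun c a b => (hh0 _).injective (by
      rw [AddEquiv.apply_symm_apply]
      refine (congrArg (fun z => tsec L M z (hh0 M b)) (hh0_smul _ a)).trans ((tsec_smul_left _ _ _).trans ?_)
      refine Eq.trans ?_ (hh0_smul (M := CohB1.tensorMod L M) _ _).symm
      rw [AddEquiv.apply_symm_apply]))
    (fun a b b' => by rw [map_add, tsec_add_right, map_add])
    (fun c a b => (hh0 _).injective (by
      rw [AddEquiv.apply_symm_apply]
      refine (congrArg (fun z => tsec L M (hh0 L a) z) (hh0_smul _ b)).trans ((tsec_smul_right _ _ _).trans ?_)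
      refine Eq.trans ?_ (hh0_smul (M := CohB1.tensorMod L M) _ _).symm
      rw [AddEquiv.apply_symm_apply]))

theorem hh0_mul2 {L M : X.Modules} (a : Coh.HH X L 0) (b : Coh.HH X M 0) :
    hh0 _ (mul2 k L M a b) = tsec L M (hh0 L a) (hh0 M b) := by
  exact (hh0 _).apply_symm_apply _

theorem hmap_mul2 {L L' M M' : X.Modules} (f : L ⟶ L') (g : M ⟶ M') (a : Coh.HH X L 0) (b : Coh.HH X M 0) :
    hmap k (tensorMap f g) 0 (mul2 k L M a b) = mul2 k L' M' (hmap k f 0 a) (hmap k g 0 b) := by
  refine (hh0 _).injective ?_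
  rw [hh0_hmap, hh0_mul2, hh0_mul2, hh0_hmap, hh0_hmap, tensorMap_tsec]

variable (k) in
/-- The unit section. -/
noncomputable def oneH (X : Scheme.{u}) [X.Over (Spec (CommRingCat.of k))] : Coh.HH X (Coh.structureModule X) 0 :=
  (hh0 (Coh.structureModule X)).symm (one ⊤)

theorem mul2_oneH_injective {M : X.Modules} :
    Function.Injective (mul2 k (Coh.structureModule X) M (oneH k X)) := fun b b' h => by
  have h' := congrArg (fun z => (tensorLUnit M).hom.app ⊤ (hh0 _ z)) h
  simp only [hh0_mul2] at h'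
  rw [oneH, AddEquiv.apply_symm_apply, DMon9.tensorLUnit_tsec, DMon9.tensorLUnit_tsec] at h'
  exact (hh0 M).injective (by simpa [one] using h')

theorem hmap_secHom_oneH {L : X.Modules} (s : Coh.HH X L 0) : hmap k (secHom (hh0 L s)) 0 (oneH k X) = s := by
  refine (hh0 L).injective ?_
  rw [hh0_hmap, oneH, AddEquiv.apply_symm_apply, secHom_app_one]

variable [IsAlgClosed k] [IsIntegral X] [IsProper (X ↘ Spec (CommRingCat.of k))]
  [Smooth (X ↘ Spec (CommRingCat.of k))]

/-- The kernel of `(a, b) ↦ s a + v b` is at most a line. -/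
theorem mul2_kernel_le_one (hdim : topologicalKrullDim X = 1) (hg : 6 ≤ Curv2.genus k X) (nh : NH k X) (nt : NT k X)
    {L : X.Modules} (hL : PicF.IsInvertible L) (hd : Curv2.deg k X L 1 = 5)
    {s v : Coh.HH X L 0} (hsv : LinearIndependent k ![s, v])
    {p p' : Coh.HH X L 0 × Coh.HH X L 0}
    (hp : mul2 k L L s p.1 + mul2 k L L v p.2 = 0) (hp' : mul2 k L L s p'.1 + mul2 k L L v p'.2 = 0)
    (hp0 : p ≠ 0) : ∃ c : k, p' = c • p := by
  obtain ⟨hX, h0, hbig⟩ := VB17.setup (k := k) (X := X) hdim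
  haveI := hX.like.noetherian
  let O := Coh.structureModule X
  have hO := PicLoc.isInvertible_structureModule X
  have hO1 := (isInvertible_iff_isFinLocFreeOfRank_one O).1 hO
  have hL1 := (isInvertible_iff_isFinLocFreeOfRank_one L).1 hL
  let f : (O ⊞ O : X.Modules) ⟶ L := biprod.desc (secHom (hh0 L s)) (secHom (hh0 L v))
  have hin1 : hmap k f 0 (hmap k (biprod.inl : O ⟶ O ⊞ O) 0 (oneH k X)) = s := by
    rw [← hmap_comp]; erw [biprod.inl_desc]; exact hmap_secHom_oneH s
  have hin2 : hmap k f 0 (hmap k (biprod.inr : O ⟶ O ⊞ O) 0 (oneH k X)) = v := by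
    rw [← hmap_comp]; erw [biprod.inr_desc]; exact hmap_secHom_oneH v
  obtain ⟨n, hn⟩ := VB17.exists_rank_biprod hX hO1 hO1
  have hO2 : (ShortComplex.mk (biprod.inl : O ⟶ O ⊞ O) (biprod.snd : O ⊞ O ⟶ O) biprod.inl_snd).ShortExact :=
    (ShortComplex.Splitting.ofHasBinaryBiproduct O O).shortExact
  obtain rfl : n = 2 := VB17.rank_add hO2 hO1 hn hO1
  obtain ⟨rK, rI, hK, hI, hsum, hle, hI0, -⟩ := VB17.exists_image hX.pid hn hL1 f
  have hs0 : s ≠ 0 := hsv.ne_zero 0
  have hrI : rI = 1 := by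
    rcases Nat.le_one_iff_eq_zero_or_eq_one.1 hle with h | h
    · exfalso
      rw [hI0.1 h, hmap_zero] at hin1
      exact hs0 hin1.symm
    · exact h
  subst hrI
  obtain rfl : rK = 1 := by omega
  have hG := (isInvertible_iff_isFinLocFreeOfRank_one (Abelian.image f)).2 hI
  have hKi := (isInvertible_iff_isFinLocFreeOfRank_one (kernel f)).2 hK
  -- the image
  haveI := hX.like.fin (Abelian.image f) (isCoh_of_ofRank hI) 0
  have h2G : 2 ≤ Module.finrank k (Coh.HH X (Abelian.image f) 0) := by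
    have hv : LinearIndependent k ![hmap k (Abelian.factorThruImage f) 0 (hmap k (biprod.inl : O ⟶ O ⊞ O) 0 (oneH k X)),
        hmap k (Abelian.factorThruImage f) 0 (hmap k (biprod.inr : O ⟶ O ⊞ O) 0 (oneH k X))] := by
      refine LinearIndependent.of_comp (hmap k (Abelian.image.ι f) 0) ?_
      convert hsv using 1
      funext i
      fin_cases i
      · show hmap k (Abelian.image.ι f) 0 (hmap k (Abelian.factorThruImage f) 0 _) = s
        rw [← hmap_comp, Abelian.image.fac]; exact hin1
      · show hmap k (Abelian.image.ι f) 0 (hmap k (Abelian.factorThruImage f) 0 _) = v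
        rw [← hmap_comp, Abelian.image.fac]; exact hin2
    simpa using hv.fintype_card_le_finrank
  obtain ⟨hGd, -⟩ := VB17.deg_le_of_mono hX.like hI hL1 (Abelian.image.ι f)
  have hLr := rr_nat (k := k) hdim hL
  haveI := hX.like.fin L (isCoh_of_ofRank hL1) 0
  have hL2 : 2 ≤ Module.finrank k (Coh.HH X L 0) := by simpa using hsv.fintype_card_le_finrank
  have hG1 := h1_le_of_mono (k := k) hdim hG hL (Abelian.image.ι f)
  have hG4 : 4 ≤ Curv2.deg k X (Abelian.image f) 1 := by
    by_contra hlt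
    by_cases h1 : Curv2.deg k X (Abelian.image f) 1 ≤ 1
    · have := h0_le_one hdim (by omega) nh hG h1
      omega
    · have := nh _ hG (by omega) (by omega) (by omega) (by omega)
      have := nt _ hG (by omega)
      omega
  have hdeg : Curv2.deg k X (kernel f) 1 + Curv2.deg k X (Abelian.image f) 1 = 0 := by
    have e1 := VB17.deg_add hX.like (kerSC_shortExact f) hK hn hI
    have e2 := VB17.deg_add hX.like hO2 hO1 hn hO1
    change Curv2.deg k X (O ⊞ O : X.Modules) _ = Curv2.deg k X O 1 + Curv2.deg k X O 1 at e2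
    rw [deg_structureModule] at e2
    change Curv2.deg k X (O ⊞ O : X.Modules) _ = Curv2.deg k X (kernel f) 1 + Curv2.deg k X (Abelian.image f) 1 at e1
    linarith
  have hKL := isInvertible_tensor hKi hL
  have hle1 := h0_le_one hdim (by omega) nh hKL (by rw [hX.like.deg_tensor_invertible hKi hL]; omega)
  haveI := hX.like.fin _ (isCoh_of_ofRank ((isInvertible_iff_isFinLocFreeOfRank_one _).1 hKL)) 0
  have hS := shortExact_tensorR (kerSC_shortExact f) L fun x => VB17.flat_stalk hL x
  -- the lift of a pair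
  let P : Coh.HH X L 0 × Coh.HH X L 0 →ₗ[k] Coh.HH X (CohB1.tensorMod (O ⊞ O) L) 0 :=
    (mul2 k (O ⊞ O) L (hmap k (biprod.inl : O ⟶ O ⊞ O) 0 (oneH k X))).coprod
      (mul2 k (O ⊞ O) L (hmap k (biprod.inr : O ⟶ O ⊞ O) 0 (oneH k X)))
  have hP : Function.Injective P := by
    rw [injective_iff_map_eq_zero]
    rintro ⟨a, b⟩ hab
    change mul2 k (O ⊞ O) L _ a + mul2 k (O ⊞ O) L _ b = 0 at hab
    have ha := congrArg (hmap k (tensorMap (biprod.fst : O ⊞ O ⟶ O) (𝟙 L)) 0) hab
    have hb := congrArg (hmap k (tensorMap (biprod.snd : O ⊞ O ⟶ O) (𝟙 L)) 0) hab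
    rw [map_add, map_zero, hmap_mul2, hmap_mul2, ← hmap_comp, ← hmap_comp, biprod.inl_fst, biprod.inr_fst,
      hmap_id, hmap_id, hmap_id, hmap_zero, LinearMap.map_zero, LinearMap.zero_apply, add_zero] at ha
    rw [map_add, map_zero, hmap_mul2, hmap_mul2, ← hmap_comp, ← hmap_comp, biprod.inl_snd, biprod.inr_snd,
      hmap_id, hmap_id, hmap_id, hmap_zero, LinearMap.map_zero, LinearMap.zero_apply, zero_add] at hb
    exact Prod.ext (mul2_oneH_injective (ha.trans (map_zero _).symm)) (mul2_oneH_injective (hb.trans (map_zero _).symm))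
  have hker : ∀ q : Coh.HH X L 0 × Coh.HH X L 0, mul2 k L L s q.1 + mul2 k L L v q.2 = 0 →
      P q ∈ LinearMap.range (hmap k (tensorMap (kernel.ι f) (𝟙 L)) 0) := fun q hq => by
    refine (exact_hmap_hmap k hS 0 (P q)).1 ?_
    haveI := VB17.mono_tensorMap (Abelian.image.ι f) hL
    refine hmap_f_injective k (S := ShortComplex.mk (tensorMap (Abelian.image.ι f) (𝟙 L)) _ (cokernel.condition _))
      { exact := ShortComplex.exact_of_g_is_cokernel _ (cokernelIsCokernel _) } ?_
    refine Eq.trans ?_ (map_zero _).symm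
    show hmap k (tensorMap (Abelian.image.ι f) (𝟙 L)) 0
      (hmap k (tensorMap (Abelian.factorThruImage f) (𝟙 L)) 0 (P q)) = 0
    rw [← hmap_comp, ← tensorMap_comp, Abelian.image.fac, Category.comp_id]
    show hmap k (tensorMap f (𝟙 L)) 0 (mul2 k (O ⊞ O) L _ q.1 + mul2 k (O ⊞ O) L _ q.2) = 0
    rw [map_add, hmap_mul2, hmap_mul2, hin1, hin2, hmap_id, hmap_id]
    exact hq
  obtain ⟨z, hz⟩ := hker p hp
  obtain ⟨z', hz'⟩ := hker p' hp'
  have hz0 : z ≠ 0 := fun h => hp0 (hP (by rw [← hz, h, map_zero, map_zero]))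
  have hpos : 0 < Module.finrank k (Coh.HH X (CohB1.tensorMod (kernel f) L) 0) :=
    Module.finrank_pos_iff.2 ⟨z, 0, hz0⟩
  obtain ⟨c, hc⟩ := (finrank_eq_one_iff_of_nonzero' z hz0).1 (le_antisymm hle1 hpos) z'
  exact ⟨c, hP (by rw [map_smul, ← hz, ← hz', ← hc, map_smul])⟩

/-- Ten-dimensional degree, six sections. -/
theorem six_le_h0_sq (hdim : topologicalKrullDim X = 1) (hg : 6 ≤ Curv2.genus k X) (nh : NH k X) (nt : NT k X)
    {L : X.Modules} (hL : PicF.IsInvertible L) (hd : Curv2.deg k X L 1 = 5)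
    (h3 : Module.finrank k (Coh.HH X L 0) = 3) :
    6 ≤ Module.finrank k (Coh.HH X (CohB1.tensorMod L L) 0) := by
  obtain ⟨hX, -, -⟩ := VB17.setup (k := k) (X := X) hdim
  haveI := hX.like.noetherian
  haveI := hX.like.fin L (isCoh_of_ofRank ((isInvertible_iff_isFinLocFreeOfRank_one L).1 hL)) 0
  haveI := hX.like.fin _ (isCoh_of_ofRank ((isInvertible_iff_isFinLocFreeOfRank_one _).1 (isInvertible_tensor hL hL))) 0
  let b := Module.finBasisOfFinrankEq k (Coh.HH X L 0) h3
  let μ := mul2 k L L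
  have hcomm : ∀ a c, μ a c = μ c a := fun a c => (hh0 _).injective (by
    rw [hh0_mul2, hh0_mul2, germ_tsec_comm hL])
  let Φ : (Fin 6 → k) →ₗ[k] Coh.HH X (CohB1.tensorMod L L) 0 :=
    Fintype.linearCombination k ![μ (b 0) (b 0), μ (b 0) (b 1), μ (b 0) (b 2), μ (b 1) (b 1), μ (b 1) (b 2), μ (b 2) (b 2)]
  suffices hΦ : Function.Injective Φ by simpa using LinearMap.finrank_le_finrank_of_injective hΦ
  rw [injective_iff_map_eq_zero]
  intro c hc
  simp only [Φ, Fintype.linearCombination_apply, Fin.sum_univ_six] at hc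
  simp only [Matrix.cons_val] at hc
  -- two independent vectors from coordinates
  have hrep : ∀ α β γ : k, α • b 0 + β • b 1 + γ • b 2 = 0 → α = 0 ∧ β = 0 ∧ γ = 0 := fun α β γ h => by
    have := Fintype.linearIndependent_iff.1 b.linearIndependent ![α, β, γ]
      (by simpa [Fin.sum_univ_three] using h)
    exact ⟨by simpa using this 0, by simpa using this 1, by simpa using this 2⟩
  have hindep : ∀ α β : k, α ≠ 0 ∨ β ≠ 0 → LinearIndependent k ![b 0, α • b 1 + β • b 2] := fun α β h => by
    rw [LinearIndependent.pair_iff]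
    intro x y hxy
    obtain ⟨h1, h2, h3'⟩ := hrep x (y * α) (y * β) (by rw [← hxy, smul_add, smul_smul, smul_smul]; abel)
    refine ⟨h1, ?_⟩
    rcases h with h | h
    · exact (mul_eq_zero.1 h2).resolve_right h
    · exact (mul_eq_zero.1 h3').resolve_right h
  let t := c 0 • b 0 + c 1 • b 1 + c 2 • b 2
  -- a factorization of the quadratic part
  obtain ⟨α, β, α', β', e3, e4, e5⟩ : ∃ α β α' β' : k, α * α' = c 3 ∧ α * β' + β * α' = c 4 ∧ β * β' = c 5 := by
    by_cases h : c 3 = 0
    · exact ⟨0, 1, c 4, c 5, by simp [h], by simp, by simp⟩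
    · obtain ⟨r, hr⟩ := IsAlgClosed.exists_root (Polynomial.C (c 3) * Polynomial.X ^ 2 +
        Polynomial.C (c 4) * Polynomial.X + Polynomial.C (c 5))
        (by rw [Polynomial.degree_quadratic h]; decide)
      simp only [Polynomial.IsRoot.def, Polynomial.eval_add, Polynomial.eval_mul, Polynomial.eval_C,
        Polynomial.eval_pow, Polynomial.eval_X] at hr
      refine ⟨1, -r, c 3, c 3 * r + c 4, by simp, by ring, ?_⟩
      linear_combination -hr
  let u := α' • b 1 + β' • b 2
  let w := α • b 1 + β • b 2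
  have hrel : μ (b 0) t + μ w u = 0 := by
    rw [← hc]
    simp only [t, u, w, map_add, map_smul, LinearMap.add_apply, LinearMap.smul_apply, smul_add, smul_smul,
      ← e3, ← e4, ← e5, add_smul, hcomm (b 2) (b 1)]
    rw [mul_comm α' α, mul_comm β' β, mul_comm α' β, mul_comm β' α]
    abel_nf
  have hrel' : μ (b 0) w + μ w (-(b 0)) = 0 := by rw [map_neg, hcomm w, add_neg_cancel]
  by_cases hw : α = 0 ∧ β = 0
  · have hu : μ (b 0) t = 0 := by
      rw [← hrel]; simp [w, hw.1, hw.2]
    by_contra hne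
    have ht : t ≠ 0 := fun h => hne (funext fun i => by
      obtain ⟨h1, h2, h3'⟩ := hrep _ _ _ h
      have q3 : c 3 = 0 := by rw [← e3, hw.1, zero_mul]
      have q4 : c 4 = 0 := by rw [← e4, hw.1, hw.2, zero_mul, zero_mul, add_zero]
      have q5 : c 5 = 0 := by rw [← e5, hw.2, zero_mul]
      fin_cases i <;> first | exact h1 | exact h2 | exact h3' | exact q3 | exact q4 | exact q5)
    obtain ⟨d, hd'⟩ := mul2_kernel_le_one hdim hg nh nt hL hd (hindep 1 0 (Or.inl one_ne_zero)) (p := (t, 0))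
      (p' := ((1 : k) • b 1 + (0 : k) • b 2, -(b 0))) (by simpa using hu)
      (by rw [map_neg, hcomm _ (b 0)]; exact add_neg_cancel _) (by simpa using ht)
    have := congrArg Prod.snd hd'
    simp at this
    exact b.ne_zero 0 this
  · obtain ⟨d, hd'⟩ := mul2_kernel_le_one hdim hg nh nt hL hd (hindep α β (not_and_or.1 hw)) (p := (w, -(b 0)))
      (p' := (t, u)) hrel' hrel (fun h => b.ne_zero 0 (by simpa using congrArg Prod.snd h))
    have hu := congrArg Prod.snd hd'
    have ht := congrArg Prod.fst hd'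
    simp only [Prod.smul_fst, Prod.smul_snd, u, t, w] at hu ht
    obtain ⟨hd0, hα', hβ'⟩ := hrep d α' β' (by rw [add_assoc, hu, smul_neg, add_neg_cancel])
    subst hd0
    rw [zero_smul] at ht
    obtain ⟨h1, h2, h3'⟩ := hrep _ _ _ ht
    have q3 : c 3 = 0 := by rw [← e3, hα', mul_zero]
    have q4 : c 4 = 0 := by rw [← e4, hα', hβ', mul_zero, mul_zero, add_zero]
    have q5 : c 5 = 0 := by rw [← e5, hβ', mul_zero]
    funext i
    fin_cases i <;> first | exact h1 | exact h2 | exact h3' | exact q3 | exact q4 | exact q5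

/-- Genus of a plane quintic. -/
theorem genus_eq_six (hdim : topologicalKrullDim X = 1) (hg : 6 ≤ Curv2.genus k X) (nh : NH k X) (nt : NT k X)
    {L : X.Modules} (hL : PicF.IsInvertible L) (hd : Curv2.deg k X L 1 = 5)
    (h3 : Module.finrank k (Coh.HH X L 0) = 3) : Curv2.genus k X = 6 := by
  by_contra hne
  obtain ⟨hX, -, -⟩ := VB17.setup (k := k) (X := X) hdim
  haveI := hX.like.noetherian
  have h6 := six_le_h0_sq hdim hg nh nt hL hd h3
  have hLL := isInvertible_tensor hL hL
  have hdd := hX.like.deg_tensor_invertible hL hL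
  have hrr := rr_nat (k := k) hdim hLL
  rw [hdd, hd] at hrr
  by_cases h1 : 1 ≤ Module.finrank k (Coh.HH X (CohB1.tensorMod L L) 1)
  · have := nh _ hLL (by omega) h1 (by omega) (by omega)
    omega
  · omega

end Groth.Agent.Cliff17
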