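import Groth.Agent.Lib.Cliff17.Step
import Groth.Agent.Lib.Cliff17.Quad
import Groth.Agent.Lib.VB17.TwistBound
import Groth.Prelude.Def_PicF2
import Groth.Prelude.Def_LinSer

/-!
# Curves with an invertible module of Clifford index one
-/

set_option linter.style.haveILetI false
set_option autoImplicit false
set_option maxHeartbeats 800000

universe u

open CategoryTheory TopologicalSpace Opposite CategoryTheory.Limits AlgebraicGeometry

namespace Groth.Agent.Cliff17

open Groth.Agent.M1 Groth.Agent.M2 Groth.Agent.CurveCoh17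

variable {k : Type u} [Field k] {X : Scheme.{u}} [X.Over (Spec (CommRingCat.of k))]

/-- Independent sections inside a submodule bound its sections. -/
theorem le_h0_of_linIndep {W M : X.Modules} [Module.Finite k (Coh.HH X M 0)] (ι : M ⟶ W) {m : ℕ}
    {w : Fin m → LinSer.Sect X W} (hw : LinSer.LinIndep k X W w)
    (hv : ∀ j, ∃ v : LinSer.Sect X M, (ι.val.app (op ⊤)).hom v = w j) :
    m ≤ Module.finrank k (Coh.HH X M 0) := by
  choose v hv' using hv
  have hli : LinearIndependent k fun i => hmap k ι 0 ((hh0 M).symm (v i)) :=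
    Fintype.linearIndependent_iff.2 fun c hc => by
      refine congrFun (hw c ?_)
      have h := congrArg (hh0 W) hc
      rw [map_zero, map_sum] at h
      refine Eq.trans (Finset.sum_congr rfl fun i _ => ?_) h
      refine Eq.trans ?_ (hh0_smul (M := W) _ _).symm
      rw [hh0_hmap]
      refine congrArg (fun z => (show Γ(X, ⊤) from Coh.toGlobal (X ↘ Spec (CommRingCat.of k)) (c i)) • z) ?_
      exact (hv' i).symm.trans (congrArg (fun z => (ι.app ⊤) z) ((hh0 M).apply_symm_apply (v i)).symm)
  simpa using (hli.of_comp (hmap k ι 0)).fintype_card_le_finrank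

variable [IsAlgClosed k] [IsIntegral X] [IsProper (X ↘ Spec (CommRingCat.of k))]
  [Smooth (X ↘ Spec (CommRingCat.of k))] {W : X.Modules} {lam : Module.Dual k (Coh.HH X W 1)}

theorem plane_embedding (hdim : topologicalKrullDim X = 1) (nt : NT k X)
    {L : X.Modules} (hL : PicF.IsInvertible L) (hd : Curv2.deg k X L 1 = 5)
    (h3 : Module.finrank k (Coh.HH X L 0) = 3) :
    ∃ i : X ⟶ CohB1.ProjSpace 2 k, IsClosedImmersion i ∧
      i ≫ CohB1.ProjSpace.toSpec 2 k = X ↘ Spec (CommRingCat.of k) := by
  obtain ⟨hX, -, -⟩ := VB17.setup (k := k) (X := X) hdim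
  haveI := hX.like.noetherian
  have hreg := fun x => SmoothReg17.isRegularLocalRing_stalk (X ↘ Spec (CommRingCat.of k)) x
  obtain ⟨i, hi, hi', -⟩ := hX.like.exists_closedImmersion hdim hreg hL (n := 2) h3 fun P Q hP hQ => by
    have iP := isInvertible_pointIdeal hdim hreg hP
    have iQ := isInvertible_pointIdeal hdim hreg hQ
    have iLP := isInvertible_tensor hL iP
    have dP := VB17.deg_pointIdeal (k := k) hX.like hP
    have dQ := VB17.deg_pointIdeal (k := k) hX.like hQ
    rw [finrank_residueField hP] at dP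
    rw [finrank_residueField hQ] at dQ
    have hle := nt _ (isInvertible_tensor hL (isInvertible_tensor iP iQ))
      (by rw [hX.like.deg_tensor_invertible hL (isInvertible_tensor iP iQ), hX.like.deg_tensor_invertible iP iQ, dP, dQ, hd]
          norm_num)
    have a := hX.like.h0_le_twist_add_one hL hP
    have b := hX.like.h0_le_twist_add_one iLP hQ
    have c := (hequiv k (tensorAssoc L
      (ClSub.idealMod (Scheme.IdealSheafData.vanishingIdeal (⟨{P}, hP⟩ : Closeds X)))
      (ClSub.idealMod (Scheme.IdealSheafData.vanishingIdeal (⟨{Q}, hQ⟩ : Closeds X)))) 0).finrank_eq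
    omega
  exact ⟨i, hi, hi'⟩

/-- An invertible module of Clifford index one: plane quintic unless trigonal. -/
theorem cliff_one (hdim : topologicalKrullDim X = 1) (hW : VB17.IsDualizing k W lam) (nh : NH k X) (nt : NT k X) :
    ∀ (n : ℕ) {L : X.Modules}, PicF.IsInvertible L → Module.finrank k (Coh.HH X L 0) = n → 2 ≤ n →
      2 ≤ Module.finrank k (Coh.HH X L 1) →
      2 * (Module.finrank k (Coh.HH X L 0) : ℤ) = Curv2.deg k X L 1 + 1 →
      Curv2.genus k X = 6 ∧ ∃ i : X ⟶ CohB1.ProjSpace 2 k, IsClosedImmersion i ∧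
        i ≫ CohB1.ProjSpace.toSpec 2 k = X ↘ Spec (CommRingCat.of k) := by
  intro n
  induction n using Nat.strong_induction_on with
  | _ n ih =>
    intro L hL hn h2 h12 heq
    have hrr := rr_nat (k := k) hdim hL
    obtain ⟨M, hM, hdM, h1, -⟩ := exists_residual hdim hW hL
    by_cases h2' : n = 2
    · have := nt L hL (by omega)
      omega
    by_cases h12' : Module.finrank k (Coh.HH X L 1) = 2
    · have := nt M hM (by omega)
      omega
    by_cases h3 : n = 3
    · exact ⟨genus_eq_six hdim (by omega) nh nt hL (by omega) (by omega), plane_embedding hdim nt hL (by omega) (by omega)⟩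
    · obtain ⟨K, hK, hlt, hK2, hK12, hKeq⟩ := exists_step hdim hW nh hL heq (by omega) (by omega)
      exact ih _ (by omega) hK rfl hK2 hK12 hKeq

/-- The inequality behind linear stability of projections of the canonical curve. -/
theorem deg_bound (hdim : topologicalKrullDim X = 1) (hW : VB17.IsDualizing k W lam) (nh : NH k X)
    (hg : 3 ≤ Curv2.genus k X) {M : X.Modules} (hM : PicF.IsInvertible M) (ι : M ⟶ W) [Mono ι] {m : ℕ}
    (hm : 2 ≤ m) (hmle : m ≤ Module.finrank k (Coh.HH X M 0)) :
    Curv2.deg k X M 1 = 2 * (Curv2.genus k X : ℤ) - 2 ∨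
      (m : ℤ) + (Curv2.genus k X : ℤ) - 2 ≤ Curv2.deg k X M 1 ∨
      (2 ≤ Module.finrank k (Coh.HH X M 1) ∧ 2 * (Module.finrank k (Coh.HH X M 0) : ℤ) ≤ Curv2.deg k X M 1 + 1) := by
  obtain ⟨hX, h0, hbig⟩ := VB17.setup (k := k) (X := X) hdim
  haveI := hX.like.noetherian
  obtain ⟨hW0, hW1, hWd⟩ := hW.invariants hX h0 hbig
  obtain ⟨hle, -⟩ := VB17.deg_le_of_mono hX.like ((isInvertible_iff_isFinLocFreeOfRank_one M).1 hM)
    ((isInvertible_iff_isFinLocFreeOfRank_one W).1 hW.inv) ι
  rw [hWd] at hle
  have hrr := rr_nat (k := k) hdim hM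
  have h1 := h1_le_of_mono (k := k) hdim hM hW.inv ι
  by_cases he : Curv2.deg k X M 1 = 2 * (Curv2.genus k X : ℤ) - 2
  · exact Or.inl he
  by_cases h2 : 2 ≤ Module.finrank k (Coh.HH X M 1)
  · have hc := clifford_le (k := k) hdim hM (by omega) (by omega)
    exact Or.inr (Or.inr ⟨h2, nh M hM (by omega) (by omega) (by omega) (by omega)⟩)
  · exact Or.inr (Or.inl (by omega))

end Groth.Agent.Cliff17
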