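import Groth.Agent.Lib.Cliff17.Quad
import Mathlib.LinearAlgebra.QuadraticForm.Basic
import Mathlib.LinearAlgebra.Matrix.BilinearForm

/-!
# Quadrics of rank at most four give two pencils
-/

set_option linter.style.haveILetI false
set_option autoImplicit false
set_option maxHeartbeats 800000

universe u

open CategoryTheory TopologicalSpace Opposite CategoryTheory.Limits AlgebraicGeometry

namespace Groth.Agent.Cliff17

open Groth.Agent.M1 Groth.Agent.M2 Groth.Agent.CurveCoh17

variable {k : Type u} [Field k] {X : Scheme.{u}} [X.Over (Spec (CommRingCat.of k))]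
  [IsAlgClosed k] [IsIntegral X] [IsProper (X ↘ Spec (CommRingCat.of k))]
  [Smooth (X ↘ Spec (CommRingCat.of k))]

/-- Two independent relations on a pencil split the degree into two pencils. -/
theorem pencil_pair (hdim : topologicalKrullDim X = 1)
    {L : X.Modules} (hL : PicF.IsInvertible L)
    {s v : Coh.HH X L 0} (hsv : LinearIndependent k ![s, v])
    {p p' : Coh.HH X L 0 × Coh.HH X L 0}
    (hp : mul2 k L L s p.1 + mul2 k L L v p.2 = 0) (hp' : mul2 k L L s p'.1 + mul2 k L L v p'.2 = 0)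
    (hpp : LinearIndependent k ![p, p']) :
    ∃ A B : X.Modules, PicF.IsInvertible A ∧ PicF.IsInvertible B ∧
      Curv2.deg k X A 1 + Curv2.deg k X B 1 = Curv2.deg k X L 1 ∧
      2 ≤ Module.finrank k (Coh.HH X A 0) ∧ 2 ≤ Module.finrank k (Coh.HH X B 0) := by
  obtain ⟨hX, h0, hbig⟩ := VB17.setup (k := k) (X := X) hdim
  haveI := hX.like.noetherian
  let O := Coh.structureModule X
  have hO := PicLoc.isInvertible_structureModule X
  have hO1 := (isInvertible_iff_isFinLocFreeOfRank_one O).1 hO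
  have hL1 := (isInvertible_iff_isFinLocFreeOfRank_one L).1 hL
  let f : (O ⊞ O : X.Modules) ⟶ L := biprod.desc (secHom (hh0 L s)) (secHom (hh0 L v))
  have hin1 : hmap k f 0 (hmap k (biprod.inl : O ⟶ O ⊞ O) 0 (oneH k X)) = s := by
    rw [← hmap_comp]; erw [biprod.inl_desc]; exact hmap_secHom_oneH s
  have hin2 : hmap k f 0 (hmap k (biprod.inr : O ⟶ O ⊞ O) 0 (oneH k X)) = v := by
    rw [← hmap_comp]; erw [biprod.inr_desc]; exact hmap_secHom_oneH v
  obtain ⟨n, hn⟩ := VB17.exists_rank_biprod hX hO1 hO1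
  have hO2 : (ShortComplex.mk (biprod.inl : O ⟶ O ⊞ O) (biprod.snd : O ⊞ O ⟶ O) biprod.inl_snd).ShortExact :=
    (ShortComplex.Splitting.ofHasBinaryBiproduct O O).shortExact
  obtain rfl : n = 2 := VB17.rank_add hO2 hO1 hn hO1
  obtain ⟨rK, rI, hK, hI, hsum, hle, hI0, -⟩ := VB17.exists_image hX.pid hn hL1 f
  have hs0 : s ≠ 0 := hsv.ne_zero 0
  have hrI : rI = 1 := by
    rcases Nat.le_one_iff_eq_zero_or_eq_one.1 hle with h | h
    · exfalso
      rw [hI0.1 h, hmap_zero] at hin1
      exact hs0 hin1.symm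
    · exact h
  subst hrI
  obtain rfl : rK = 1 := by omega
  have hG := (isInvertible_iff_isFinLocFreeOfRank_one (Abelian.image f)).2 hI
  have hKi := (isInvertible_iff_isFinLocFreeOfRank_one (kernel f)).2 hK
  -- the image
  haveI := hX.like.fin (Abelian.image f) (isCoh_of_ofRank hI) 0
  have h2G : 2 ≤ Module.finrank k (Coh.HH X (Abelian.image f) 0) := by
    have hv : LinearIndependent k ![hmap k (Abelian.factorThruImage f) 0 (hmap k (biprod.inl : O ⟶ O ⊞ O) 0 (oneH k X)),
        hmap k (Abelian.factorThruImage f) 0 (hmap k (biprod.inr : O ⟶ O ⊞ O) 0 (oneH k X))] := by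
      refine LinearIndependent.of_comp (hmap k (Abelian.image.ι f) 0) ?_
      convert hsv using 1
      funext i
      fin_cases i
      · show hmap k (Abelian.image.ι f) 0 (hmap k (Abelian.factorThruImage f) 0 _) = s
        rw [← hmap_comp, Abelian.image.fac]; exact hin1
      · show hmap k (Abelian.image.ι f) 0 (hmap k (Abelian.factorThruImage f) 0 _) = v
        rw [← hmap_comp, Abelian.image.fac]; exact hin2
    simpa using hv.fintype_card_le_finrank
  haveI := hX.like.fin L (isCoh_of_ofRank hL1) 0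
  have hdeg : Curv2.deg k X (kernel f) 1 + Curv2.deg k X (Abelian.image f) 1 = 0 := by
    have e1 := VB17.deg_add hX.like (kerSC_shortExact f) hK hn hI
    have e2 := VB17.deg_add hX.like hO2 hO1 hn hO1
    change Curv2.deg k X (O ⊞ O : X.Modules) _ = Curv2.deg k X O 1 + Curv2.deg k X O 1 at e2
    rw [deg_structureModule] at e2
    change Curv2.deg k X (O ⊞ O : X.Modules) _ = Curv2.deg k X (kernel f) 1 + Curv2.deg k X (Abelian.image f) 1 at e1
    linarith
  have hKL := isInvertible_tensor hKi hL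
  haveI := hX.like.fin _ (isCoh_of_ofRank ((isInvertible_iff_isFinLocFreeOfRank_one _).1 hKL)) 0
  have hS := shortExact_tensorR (kerSC_shortExact f) L fun x => VB17.flat_stalk hL x
  -- the lift of a pair
  let P : Coh.HH X L 0 × Coh.HH X L 0 →ₗ[k] Coh.HH X (CohB1.tensorMod (O ⊞ O) L) 0 :=
    (mul2 k (O ⊞ O) L (hmap k (biprod.inl : O ⟶ O ⊞ O) 0 (oneH k X))).coprod
      (mul2 k (O ⊞ O) L (hmap k (biprod.inr : O ⟶ O ⊞ O) 0 (oneH k X)))
  have hP : Function.Injective P := by
    rw [injective_iff_map_eq_zero]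
    rintro ⟨a, b⟩ hab
    change mul2 k (O ⊞ O) L _ a + mul2 k (O ⊞ O) L _ b = 0 at hab
    have ha := congrArg (hmap k (tensorMap (biprod.fst : O ⊞ O ⟶ O) (𝟙 L)) 0) hab
    have hb := congrArg (hmap k (tensorMap (biprod.snd : O ⊞ O ⟶ O) (𝟙 L)) 0) hab
    rw [map_add, map_zero, hmap_mul2, hmap_mul2, ← hmap_comp, ← hmap_comp, biprod.inl_fst, biprod.inr_fst,
      hmap_id, hmap_id, hmap_id, hmap_zero, LinearMap.map_zero, LinearMap.zero_apply, add_zero] at ha
    rw [map_add, map_zero, hmap_mul2, hmap_mul2, ← hmap_comp, ← hmap_comp, biprod.inl_snd, biprod.inr_snd,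
      hmap_id, hmap_id, hmap_id, hmap_zero, LinearMap.map_zero, LinearMap.zero_apply, zero_add] at hb
    exact Prod.ext (mul2_oneH_injective (ha.trans (map_zero _).symm)) (mul2_oneH_injective (hb.trans (map_zero _).symm))
  have hker : ∀ q : Coh.HH X L 0 × Coh.HH X L 0, mul2 k L L s q.1 + mul2 k L L v q.2 = 0 →
      P q ∈ LinearMap.range (hmap k (tensorMap (kernel.ι f) (𝟙 L)) 0) := fun q hq => by
    refine (exact_hmap_hmap k hS 0 (P q)).1 ?_
    haveI := VB17.mono_tensorMap (Abelian.image.ι f) hL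
    refine hmap_f_injective k (S := ShortComplex.mk (tensorMap (Abelian.image.ι f) (𝟙 L)) _ (cokernel.condition _))
      { exact := ShortComplex.exact_of_g_is_cokernel _ (cokernelIsCokernel _) } ?_
    refine Eq.trans ?_ (map_zero _).symm
    show hmap k (tensorMap (Abelian.image.ι f) (𝟙 L)) 0
      (hmap k (tensorMap (Abelian.factorThruImage f) (𝟙 L)) 0 (P q)) = 0
    rw [← hmap_comp, ← tensorMap_comp, Abelian.image.fac, Category.comp_id]
    show hmap k (tensorMap f (𝟙 L)) 0 (mul2 k (O ⊞ O) L _ q.1 + mul2 k (O ⊞ O) L _ q.2) = 0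
    rw [map_add, hmap_mul2, hmap_mul2, hin1, hin2, hmap_id, hmap_id]
    exact hq
  obtain ⟨z, hz⟩ := hker p hp
  obtain ⟨z', hz'⟩ := hker p' hp'
  have hzz : LinearIndependent k ![z, z'] := by
    rw [LinearIndependent.pair_iff] at hpp ⊢
    intro x y hxy
    refine hpp x y (hP ?_)
    rw [map_add, map_smul, map_smul, ← hz, ← hz', ← map_smul, ← map_smul, ← map_add, hxy, map_zero, map_zero]
  refine ⟨_, _, hKL, hG, ?_, by simpa using hzz.fintype_card_le_finrank, h2G⟩
  rw [hX.like.deg_tensor_invertible hKi hL]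
  linarith

/-- Six sections. -/
theorem six_le_h0_sq_of_not_pair (hdim : topologicalKrullDim X = 1) 
    {L : X.Modules} (hL : PicF.IsInvertible L) (hno : ∀ A B : X.Modules, PicF.IsInvertible A → PicF.IsInvertible B →
      Curv2.deg k X A 1 + Curv2.deg k X B 1 = Curv2.deg k X L 1 →
      2 ≤ Module.finrank k (Coh.HH X A 0) → 2 ≤ Module.finrank k (Coh.HH X B 0) → False)
    (h3 : Module.finrank k (Coh.HH X L 0) = 3) :
    6 ≤ Module.finrank k (Coh.HH X (CohB1.tensorMod L L) 0) := by
  obtain ⟨hX, -, -⟩ := VB17.setup (k := k) (X := X) hdim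
  haveI := hX.like.noetherian
  haveI := hX.like.fin L (isCoh_of_ofRank ((isInvertible_iff_isFinLocFreeOfRank_one L).1 hL)) 0
  haveI := hX.like.fin _ (isCoh_of_ofRank ((isInvertible_iff_isFinLocFreeOfRank_one _).1 (isInvertible_tensor hL hL))) 0
  let b := Module.finBasisOfFinrankEq k (Coh.HH X L 0) h3
  let μ := mul2 k L L
  have hcomm : ∀ a c, μ a c = μ c a := fun a c => (hh0 _).injective (by
    rw [hh0_mul2, hh0_mul2, germ_tsec_comm hL])
  let Φ : (Fin 6 → k) →ₗ[k] Coh.HH X (CohB1.tensorMod L L) 0 :=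
    Fintype.linearCombination k ![μ (b 0) (b 0), μ (b 0) (b 1), μ (b 0) (b 2), μ (b 1) (b 1), μ (b 1) (b 2), μ (b 2) (b 2)]
  suffices hΦ : Function.Injective Φ by simpa using LinearMap.finrank_le_finrank_of_injective hΦ
  rw [injective_iff_map_eq_zero]
  intro c hc
  simp only [Φ, Fintype.linearCombination_apply, Fin.sum_univ_six] at hc
  simp only [Matrix.cons_val] at hc
  -- two independent vectors from coordinates
  have hrep : ∀ α β γ : k, α • b 0 + β • b 1 + γ • b 2 = 0 → α = 0 ∧ β = 0 ∧ γ = 0 := fun α β γ h => by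
    have := Fintype.linearIndependent_iff.1 b.linearIndependent ![α, β, γ]
      (by simpa [Fin.sum_univ_three] using h)
    exact ⟨by simpa using this 0, by simpa using this 1, by simpa using this 2⟩
  have hindep : ∀ α β : k, α ≠ 0 ∨ β ≠ 0 → LinearIndependent k ![b 0, α • b 1 + β • b 2] := fun α β h => by
    rw [LinearIndependent.pair_iff]
    intro x y hxy
    obtain ⟨h1, h2, h3'⟩ := hrep x (y * α) (y * β) (by rw [← hxy, smul_add, smul_smul, smul_smul]; abel)
    refine ⟨h1, ?_⟩
    rcases h with h | h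
    · exact (mul_eq_zero.1 h2).resolve_right h
    · exact (mul_eq_zero.1 h3').resolve_right h
  let t := c 0 • b 0 + c 1 • b 1 + c 2 • b 2
  have key : ∀ {s v : Coh.HH X L 0}, LinearIndependent k ![s, v] → ∀ {p p' : Coh.HH X L 0 × Coh.HH X L 0},
      μ s p.1 + μ v p.2 = 0 → μ s p'.1 + μ v p'.2 = 0 → p ≠ 0 → ∃ c : k, p' = c • p := by
    intro s v hsv p p' hp hp' hp0
    by_contra hne
    obtain ⟨A, B, hA, hB, hAB, a2, b2⟩ := pencil_pair hdim hL hsv hp hp'
      ((LinearIndependent.pair_iff' hp0).2 fun a h => hne ⟨a, h.symm⟩)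
    exact hno A B hA hB hAB a2 b2
  -- a factorization of the quadratic part
  obtain ⟨α, β, α', β', e3, e4, e5⟩ : ∃ α β α' β' : k, α * α' = c 3 ∧ α * β' + β * α' = c 4 ∧ β * β' = c 5 := by
    by_cases h : c 3 = 0
    · exact ⟨0, 1, c 4, c 5, by simp [h], by simp, by simp⟩
    · obtain ⟨r, hr⟩ := IsAlgClosed.exists_root (Polynomial.C (c 3) * Polynomial.X ^ 2 +
        Polynomial.C (c 4) * Polynomial.X + Polynomial.C (c 5))
        (by rw [Polynomial.degree_quadratic h]; decide)
      simp only [Polynomial.IsRoot.def, Polynomial.eval_add, Polynomial.eval_mul, Polynomial.eval_C,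
        Polynomial.eval_pow, Polynomial.eval_X] at hr
      refine ⟨1, -r, c 3, c 3 * r + c 4, by simp, by ring, ?_⟩
      linear_combination -hr
  let u := α' • b 1 + β' • b 2
  let w := α • b 1 + β • b 2
  have hrel : μ (b 0) t + μ w u = 0 := by
    rw [← hc]
    simp only [t, u, w, map_add, map_smul, LinearMap.add_apply, LinearMap.smul_apply, smul_add, smul_smul,
      ← e3, ← e4, ← e5, add_smul, hcomm (b 2) (b 1)]
    rw [mul_comm α' α, mul_comm β' β, mul_comm α' β, mul_comm β' α]
    abel_nf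
  have hrel' : μ (b 0) w + μ w (-(b 0)) = 0 := by rw [map_neg, hcomm w, add_neg_cancel]
  by_cases hw : α = 0 ∧ β = 0
  · have hu : μ (b 0) t = 0 := by
      rw [← hrel]; simp [w, hw.1, hw.2]
    by_contra hne
    have ht : t ≠ 0 := fun h => hne (funext fun i => by
      obtain ⟨h1, h2, h3'⟩ := hrep _ _ _ h
      have q3 : c 3 = 0 := by rw [← e3, hw.1, zero_mul]
      have q4 : c 4 = 0 := by rw [← e4, hw.1, hw.2, zero_mul, zero_mul, add_zero]
      have q5 : c 5 = 0 := by rw [← e5, hw.2, zero_mul]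
      fin_cases i <;> first | exact h1 | exact h2 | exact h3' | exact q3 | exact q4 | exact q5)
    obtain ⟨d, hd'⟩ := key (hindep 1 0 (Or.inl one_ne_zero)) (p := (t, 0))
      (p' := ((1 : k) • b 1 + (0 : k) • b 2, -(b 0))) (by simpa using hu)
      (by rw [map_neg, hcomm _ (b 0)]; exact add_neg_cancel _) (by simpa using ht)
    have := congrArg Prod.snd hd'
    simp at this
    exact b.ne_zero 0 this
  · obtain ⟨d, hd'⟩ := key (hindep α β (not_and_or.1 hw)) (p := (w, -(b 0)))
      (p' := (t, u)) hrel' hrel (fun h => b.ne_zero 0 (by simpa using congrArg Prod.snd h))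
    have hu := congrArg Prod.snd hd'
    have ht := congrArg Prod.fst hd'
    simp only [Prod.smul_fst, Prod.smul_snd, u, t, w] at hu ht
    obtain ⟨hd0, hα', hβ'⟩ := hrep d α' β' (by rw [add_assoc, hu, smul_neg, add_neg_cancel])
    subst hd0
    rw [zero_smul] at ht
    obtain ⟨h1, h2, h3'⟩ := hrep _ _ _ ht
    have q3 : c 3 = 0 := by rw [← e3, hα', mul_zero]
    have q4 : c 4 = 0 := by rw [← e4, hα', hβ', mul_zero, mul_zero, add_zero]
    have q5 : c 5 = 0 := by rw [← e5, hβ', mul_zero]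
    funext i
    fin_cases i <;> first | exact h1 | exact h2 | exact h3' | exact q3 | exact q4 | exact q5

/-- Four sections with few products split into two pencils. -/
theorem pencils_of_h0_four [CharZero k] (hdim : topologicalKrullDim X = 1)
    {L : X.Modules} (hL : PicF.IsInvertible L) (h4 : Module.finrank k (Coh.HH X L 0) = 4)
    (h9 : Module.finrank k (Coh.HH X (CohB1.tensorMod L L) 0) ≤ 9) :
    ∃ A B : X.Modules, PicF.IsInvertible A ∧ PicF.IsInvertible B ∧
      Curv2.deg k X A 1 + Curv2.deg k X B 1 = Curv2.deg k X L 1 ∧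
      2 ≤ Module.finrank k (Coh.HH X A 0) ∧ 2 ≤ Module.finrank k (Coh.HH X B 0) := by
  obtain ⟨hX, -, -⟩ := VB17.setup (k := k) (X := X) hdim
  haveI := hX.like.noetherian
  haveI := hX.like.fin L (isCoh_of_ofRank ((isInvertible_iff_isFinLocFreeOfRank_one L).1 hL)) 0
  haveI := hX.like.fin _ (isCoh_of_ofRank ((isInvertible_iff_isFinLocFreeOfRank_one _).1 (isInvertible_tensor hL hL))) 0
  haveI : Invertible (2 : k) := invertibleOfNonzero two_ne_zero
  let b := Module.finBasisOfFinrankEq k (Coh.HH X L 0) h4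
  let μ := mul2 k L L
  have hcomm : ∀ a c, μ a c = μ c a := fun a c => (hh0 _).injective (by
    rw [hh0_mul2, hh0_mul2, germ_tsec_comm hL])
  -- a symmetric relation
  obtain ⟨S, hS, hS0, hrel⟩ : ∃ S : Matrix (Fin 4) (Fin 4) k, S.IsSymm ∧ S ≠ 0 ∧
      ∑ i, ∑ j, S i j • μ (b i) (b j) = 0 := by
    let v : Fin 10 → Coh.HH X (CohB1.tensorMod L L) 0 := ![μ (b 0) (b 0), μ (b 1) (b 1), μ (b 2) (b 2), μ (b 3) (b 3),
      μ (b 0) (b 1), μ (b 0) (b 2), μ (b 0) (b 3), μ (b 1) (b 2), μ (b 1) (b 3), μ (b 2) (b 3)]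
    have hdep : ¬ LinearIndependent k v := fun h => by
      have h10 := h.fintype_card_le_finrank
      simp at h10
      omega
    obtain ⟨g, hg, i, hi⟩ := Fintype.not_linearIndependent_iff.1 hdep
    let S : Matrix (Fin 4) (Fin 4) k := !![2 * g 0, g 4, g 5, g 6; g 4, 2 * g 1, g 7, g 8;
      g 5, g 7, 2 * g 2, g 9; g 6, g 8, g 9, 2 * g 3]
    refine ⟨S, Matrix.IsSymm.ext fun p q => by fin_cases p <;> fin_cases q <;> rfl, fun h => hi ?_, ?_⟩
    · have a := fun p q => congrFun (congrFun h p) q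
      fin_cases i
      · simpa [S] using a 0 0
      · simpa [S] using a 1 1
      · simpa [S] using a 2 2
      · simpa [S] using a 3 3
      · simpa [S] using a 0 1
      · simpa [S] using a 0 2
      · simpa [S] using a 0 3
      · simpa [S] using a 1 2
      · simpa [S] using a 1 3
      · simpa [S] using a 2 3
    · refine Eq.trans ?_ ((congrArg ((2 : k) • ·) hg).trans (smul_zero _))
      simp [S, v, Fin.sum_univ_succ, smul_add, smul_smul, two_mul, add_smul, hcomm (b 1) (b 0), hcomm (b 2) (b 0),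
        hcomm (b 3) (b 0), hcomm (b 2) (b 1), hcomm (b 3) (b 1), hcomm (b 3) (b 2)]
      abel
  -- diagonalisation
  have hBs : LinearMap.IsSymm (Matrix.toBilin' S) := ⟨fun x y => by
    show Matrix.toBilin' S x y = Matrix.toBilin' S y x
    rw [Matrix.toBilin'_apply, Matrix.toBilin'_apply, Finset.sum_comm]
    exact Finset.sum_congr rfl fun p _ => Finset.sum_congr rfl fun q _ => by rw [hS.apply p q]; ring⟩
  obtain ⟨e0, he0⟩ := LinearMap.BilinForm.exists_orthogonal_basis hBs
  let e := e0.reindex (finCongr (Module.finrank_fin_fun (n := 4) k))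
  have he : ∀ p q, p ≠ q → Matrix.toBilin' S (e p) (e q) = 0 := fun p q h => by
    simp only [e, Module.Basis.reindex_apply]
    exact he0 (fun h' => h ((finCongr _).symm.injective h'))
  let w : Fin 4 → k := fun p => Matrix.toBilin' S (e p) (e p)
  let R : Fin 4 → Fin 4 → k := fun i p => e.repr (Pi.single i 1) p
  have hdiag : ∀ i j, S i j = ∑ p, R i p * R j p * w p := fun i j => by
    rw [← Matrix.toBilin'_single S i j]
    conv_lhs => rw [← e.sum_repr (Pi.single i (1 : k)), ← e.sum_repr (Pi.single j (1 : k))]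
    simp only [map_sum, map_smul, LinearMap.sum_apply, LinearMap.smul_apply, smul_eq_mul, Finset.mul_sum]
    rw [Finset.sum_comm]
    refine Finset.sum_congr rfl fun p _ => ?_
    rw [Finset.sum_eq_single p]
    · simp only [R, w]; ring
    · intro q _ hq
      simp [he p q (Ne.symm hq)]
    · simp
  let u : Fin 4 → Coh.HH X L 0 := fun p => ∑ i, R i p • b i
  have hu : ∀ c : Fin 4 → k, ∑ p, c p • u p = 0 → c = 0 := fun c hc => by
    have h1 : ∀ i, ∑ p, c p * R i p = 0 := fun i => by
      refine Fintype.linearIndependent_iff.1 b.linearIndependent (fun i => ∑ p, c p * R i p) ?_ i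
      refine Eq.trans ?_ hc
      simp only [u, Finset.smul_sum, smul_smul, Finset.sum_smul]
      exact Finset.sum_comm
    let φ : (Fin 4 → k) →ₗ[k] k :=
      { toFun := fun x => ∑ p, c p * e.repr x p
        map_add' := fun x y => by simp [mul_add, Finset.sum_add_distrib]
        map_smul' := fun a x => by simp [Finset.mul_sum, mul_left_comm] }
    have hφ : φ = 0 := (Pi.basisFun k (Fin 4)).ext fun i => by
      rw [Pi.basisFun_apply]; exact h1 i
    funext p
    simpa [φ, Finsupp.single_apply] using LinearMap.congr_fun hφ (e p)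
  have hu' : ∀ a0 a1 a2 a3 : k, a0 • u 0 + a1 • u 1 + a2 • u 2 + a3 • u 3 = 0 →
      a0 = 0 ∧ a1 = 0 ∧ a2 = 0 ∧ a3 = 0 := fun a0 a1 a2 a3 h => by
    have h' := congrFun (hu ![a0, a1, a2, a3] (by simpa [Fin.sum_univ_four] using h))
    exact ⟨h' 0, h' 1, h' 2, h' 3⟩
  have hrel' : ∑ p, w p • μ (u p) (u p) = 0 := by
    rw [← hrel]
    simp only [u, map_sum, map_smul, LinearMap.sum_apply, LinearMap.smul_apply, Finset.smul_sum, smul_smul, hdiag,
      Finset.sum_smul]
    rw [Finset.sum_comm]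
    refine Finset.sum_congr rfl fun i _ => ?_
    rw [Finset.sum_comm]
    refine Finset.sum_congr rfl fun j _ => Finset.sum_congr rfl fun p _ => ?_
    rw [hcomm (b j) (b i)]
    congr 1
    ring
  -- two linear factors
  obtain ⟨α, hα⟩ := IsAlgClosed.exists_eq_mul_self (w 0)
  obtain ⟨β, hβ⟩ := IsAlgClosed.exists_eq_mul_self (-w 1)
  obtain ⟨γ, hγ⟩ := IsAlgClosed.exists_eq_mul_self (w 2)
  obtain ⟨δ, hδ⟩ := IsAlgClosed.exists_eq_mul_self (-w 3)
  have hw0 : ¬ (w 0 = 0 ∧ w 1 = 0 ∧ w 2 = 0 ∧ w 3 = 0) := by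
    rintro ⟨a0, a1, a2, a3⟩
    apply hS0
    ext i j
    rw [hdiag i j, Fin.sum_univ_four, a0, a1, a2, a3]
    simp
  let a := α • u 0 + β • u 1
  let a' := α • u 0 - β • u 1
  let c := γ • u 2 + δ • u 3
  let c' := γ • u 2 - δ • u 3
  have hac : μ a a' + μ c c' = 0 := by
    rw [← hrel', Fin.sum_univ_four]
    simp only [a, a', c, c', map_add, map_sub, map_smul, LinearMap.add_apply, LinearMap.smul_apply, smul_add, smul_sub,
      smul_smul, hcomm (u 1) (u 0), hcomm (u 3) (u 2), mul_comm β α, mul_comm δ γ, ← hα, ← hγ, ← hβ, ← hδ, neg_smul]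
    abel
  -- `P` from the first two, `Q` from the last two
  have hfin : ∀ {P Q P' Q' : k} {x y : k} {A' B' : Coh.HH X L 0}, (P ≠ 0 ∨ Q ≠ 0) → (P' ≠ 0 ∨ Q' ≠ 0) →
      A' = x • u 0 + y • u 1 → (x ≠ 0 ∨ y ≠ 0) →
      μ (P • u 0 + Q • u 1) A' + μ (P' • u 2 + Q' • u 3) B' = 0 →
      ∃ A B : X.Modules, PicF.IsInvertible A ∧ PicF.IsInvertible B ∧
        Curv2.deg k X A 1 + Curv2.deg k X B 1 = Curv2.deg k X L 1 ∧
        2 ≤ Module.finrank k (Coh.HH X A 0) ∧ 2 ≤ Module.finrank k (Coh.HH X B 0) := by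
    intro P Q P' Q' x y A' B' h1 h2 hA' hxy hmu
    have hind : LinearIndependent k ![P • u 0 + Q • u 1, P' • u 2 + Q' • u 3] := by
      rw [LinearIndependent.pair_iff]
      intro m n hmn
      obtain ⟨z0, z1, z2, z3⟩ := hu' (m * P) (m * Q) (n * P') (n * Q')
        (by rw [← hmn, smul_add, smul_add, smul_smul, smul_smul, smul_smul, smul_smul]; abel)
      constructor
      · rcases h1 with h | h
        · exact (mul_eq_zero.1 z0).resolve_right h
        · exact (mul_eq_zero.1 z1).resolve_right h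
      · rcases h2 with h | h
        · exact (mul_eq_zero.1 z2).resolve_right h
        · exact (mul_eq_zero.1 z3).resolve_right h
    refine pencil_pair hdim hL hind (p := (A', B')) (p' := (P' • u 2 + Q' • u 3, -(P • u 0 + Q • u 1))) hmu
      (by show μ _ _ + μ _ (-_) = 0; rw [map_neg, hcomm _ (P • u 0 + Q • u 1), add_neg_cancel]) ?_
    rw [LinearIndependent.pair_iff]
    intro m n hmn
    have hfst : m • A' + n • (P' • u 2 + Q' • u 3) = 0 := congrArg Prod.fst hmn
    obtain ⟨z0, z1, z2, z3⟩ := hu' (m * x) (m * y) (n * P') (n * Q')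
      (by rw [← hfst, hA', smul_add, smul_add, smul_smul, smul_smul, smul_smul, smul_smul]; abel)
    constructor
    · rcases hxy with h | h
      · exact (mul_eq_zero.1 z0).resolve_right h
      · exact (mul_eq_zero.1 z1).resolve_right h
    · rcases h2 with h | h
      · exact (mul_eq_zero.1 z2).resolve_right h
      · exact (mul_eq_zero.1 z3).resolve_right h
  have hneg : ∀ {x y : k}, x • u 0 - y • u 1 = x • u 0 + (-y) • u 1 := fun {x y} => by rw [neg_smul, sub_eq_add_neg]
  by_cases hab : α = 0 ∧ β = 0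
  · have hgd : γ ≠ 0 ∨ δ ≠ 0 := by
      by_contra h
      push Not at h
      exact hw0 ⟨by rw [hα, hab.1, mul_zero], by rw [← neg_eq_zero, hβ, hab.2, mul_zero],
        by rw [hγ, h.1, mul_zero], by rw [← neg_eq_zero, hδ, h.2, mul_zero]⟩
    have hcc : μ c c' = 0 := by
      have := hac
      simpa [a, a', hab.1, hab.2] using this
    -- now `u 0` is the second factor
    have hind : LinearIndependent k ![c, u 0] := by
      rw [LinearIndependent.pair_iff]
      intro m n hmn
      obtain ⟨z0, -, z2, z3⟩ := hu' n 0 (m * γ) (m * δ)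
        (by rw [← hmn]; simp only [c, smul_add, smul_smul, zero_smul]; abel)
      refine ⟨?_, z0⟩
      rcases hgd with h | h
      · exact (mul_eq_zero.1 z2).resolve_right h
      · exact (mul_eq_zero.1 z3).resolve_right h
    refine pencil_pair hdim hL hind (p := (c', 0)) (p' := (u 0, -c))
      (by show μ c c' + μ (u 0) 0 = 0; rw [hcc, map_zero, add_zero])
      (by show μ c (u 0) + μ (u 0) (-c) = 0; rw [map_neg, hcomm c (u 0), add_neg_cancel]) ?_
    rw [LinearIndependent.pair_iff]
    intro m n hmn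
    have hfst : m • c' + n • u 0 = 0 := congrArg Prod.fst hmn
    obtain ⟨z0, -, z2, z3⟩ := hu' n 0 (m * γ) (-(m * δ))
      (by rw [← hfst]; simp only [c', smul_sub, smul_smul, zero_smul, neg_smul]; abel)
    refine ⟨?_, z0⟩
    rcases hgd with h | h
    · exact (mul_eq_zero.1 z2).resolve_right h
    · exact (mul_eq_zero.1 (neg_eq_zero.1 z3)).resolve_right h
  · have hab' : α ≠ 0 ∨ β ≠ 0 := not_and_or.1 hab
    have hxy : α ≠ 0 ∨ -β ≠ 0 := hab'.imp id neg_ne_zero.2
    by_cases hgd : γ = 0 ∧ δ = 0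
    · refine hfin (P' := 1) (Q' := 0) (B' := 0) hab' (Or.inl one_ne_zero) (hneg (x := α) (y := β)) hxy ?_
      rw [map_zero, add_zero]
      simpa [a, a', c, c', hgd.1, hgd.2] using hac
    · exact hfin hab' (not_and_or.1 hgd) (hneg (x := α) (y := β)) hxy hac

end Groth.Agent.Cliff17
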