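import Groth.Agent.Lib.PlaneFF17.Coh
import Groth.Agent.Lib.ProjDim18.Top
import Groth.Agent.Lib.ProjDim18.HypSupp
import Groth.Agent.Lib.LefPen13.Pt
import Groth.Agent.Lib.CurveCoh17.P1Genus
import Groth.Agent.S10829

/-!
# An integral curve in the plane is cut out by one form
-/

set_option linter.style.haveILetI false
set_option autoImplicit false
set_option maxHeartbeats 800000

universe u

open CategoryTheory CategoryTheory.Limits AlgebraicGeometry TopologicalSpace

namespace Groth.Agent.Cliff17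

attribute [local instance] MvPolynomial.gradedAlgebra

variable {k : Type u} [Field k]

local notation "R" => MvPolynomial (Fin 3) k

/-- A form of minimal degree in a homogeneous prime is prime. -/
theorem exists_prime_form (p : Ideal R) [p.IsPrime] (hp : p.IsHomogeneous (CohB1.polyGrading 2 k)) (h0 : p ≠ ⊥) :
    ∃ (d : ℕ) (F : LefPen.Form 2 k d), 1 ≤ d ∧ F ≠ 0 ∧ Prime F.1 ∧ F.1 ∈ p := by
  classical
  have hcomp : ∀ a ∈ p, ∀ n, MvPolynomial.homogeneousComponent n a ∈ p := fun a ha n => by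
    have h := hp n ha
    rw [← MvPolynomial.decomposition.decompose'_apply a n]
    exact h
  have htop : ∀ a : R, a ≠ 0 → MvPolynomial.homogeneousComponent a.totalDegree a ≠ 0 := fun a ha h => by
    obtain ⟨e, he, hdeg⟩ : ∃ e ∈ a.support, (e.sum fun _ c => c) = a.totalDegree := by
      obtain ⟨e, he, h'⟩ := a.support.exists_mem_eq_sup (MvPolynomial.support_nonempty.2 ha) (fun s => s.sum fun _ c => c)
      exact ⟨e, he, h'.symm⟩
    have := congrArg (MvPolynomial.coeff e) h
    rw [MvPolynomial.coeff_homogeneousComponent, if_pos (by rw [← hdeg, Finsupp.degree_apply]; rfl), MvPolynomial.coeff_zero] at this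
    exact MvPolynomial.mem_support_iff.1 he this
  have hex : ∃ d, ∃ F : R, F.IsHomogeneous d ∧ F ≠ 0 ∧ F ∈ p := by
    obtain ⟨a, ha, ha0⟩ := Submodule.exists_mem_ne_zero_of_ne_bot h0
    exact ⟨_, _, MvPolynomial.homogeneousComponent_isHomogeneous _ a, htop a ha0, hcomp a ha _⟩
  obtain ⟨F, hF, hF0, hFp⟩ := Nat.find_spec hex
  have hmin : ∀ a : R, a ∈ p → a ≠ 0 → Nat.find hex ≤ a.totalDegree := fun a ha ha0 =>
    Nat.find_le ⟨_, MvPolynomial.homogeneousComponent_isHomogeneous _ a, htop a ha0, hcomp a ha _⟩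
  have hd : 1 ≤ Nat.find hex := by
    rw [Nat.one_le_iff_ne_zero]
    intro h
    have hdeg : F.totalDegree = 0 := by rw [hF.totalDegree hF0, h]
    rw [MvPolynomial.totalDegree_eq_zero_iff_eq_C] at hdeg
    refine (inferInstance : p.IsPrime).ne_top (p.eq_top_of_isUnit_mem (hdeg ▸ hFp) ?_)
    exact (isUnit_iff_ne_zero.2 fun hc => hF0 (by rw [hdeg, hc, map_zero])).map MvPolynomial.C
  refine ⟨_, ⟨F, hF⟩, hd, fun h => hF0 (congrArg Subtype.val h), ?_, hFp⟩
  refine Irreducible.prime ⟨fun hu => (inferInstance : p.IsPrime).ne_top (p.eq_top_of_isUnit_mem hFp hu), ?_⟩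
  intro a b hab
  change F = a * b at hab
  have ha0 : a ≠ 0 := fun h => hF0 (by rw [hab, h, zero_mul])
  have hb0 : b ≠ 0 := fun h => hF0 (by rw [hab, h, mul_zero])
  have hsum : Nat.find hex = a.totalDegree + b.totalDegree := by
    rw [← hF.totalDegree hF0, hab, MvPolynomial.totalDegree_mul_of_isDomain ha0 hb0]
  have key : ∀ c : R, c ≠ 0 → c.totalDegree = 0 → IsUnit c := fun c hc h => by
    rw [MvPolynomial.totalDegree_eq_zero_iff_eq_C] at h
    rw [h]
    exact (isUnit_iff_ne_zero.2 fun h' => hc (by rw [h, h', map_zero])).map MvPolynomial.C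
  rcases (inferInstance : p.IsPrime).mem_or_mem (show a * b ∈ p from hab ▸ hFp) with h | h
  · have := hmin a h ha0
    exact Or.inr (key b hb0 (by omega))
  · have := hmin b h hb0
    exact Or.inl (key a ha0 (by omega))

/-- An integral curve in the plane is a hypersurface. -/
theorem exists_hyp_ker {X : Scheme.{u}} [IsIntegral X] (hdim : topologicalKrullDim X = 1)
    (i : X ⟶ CohB1.ProjSpace 2 k) [IsClosedImmersion i] :
    ∃ (d : ℕ) (F : LefPen.Form 2 k d), 1 ≤ d ∧ F ≠ 0 ∧ i.ker = LefPen.hypIdeal F := by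
  classical
  let PP := ProjectiveSpectrum (CohB1.polyGrading 2 k)
  let Y : Set PP := Set.range i
  have hY : IsClosed Y := i.isClosedEmbedding.isClosed_range
  let y : PP := i (genericPoint X)
  have hYy : ∀ w ∈ Y, y ≤ w := by
    rintro _ ⟨x, rfl⟩
    refine (ProjectiveSpectrum.le_iff_mem_closure (CohB1.polyGrading 2 k) _ _).2 ?_
    exact ((genericPoint_specializes x).map i.continuous).mem_closure
  have hdimPP : topologicalKrullDim PP = 2 := (Groth.Agent.S10829.result k 2).trans (by rfl)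
  have hdimY : topologicalKrullDim ↥Y = 1 := by
    exact (IsHomeomorph.topologicalKrullDim_eq _ (i.isClosedEmbedding.isEmbedding.toHomeomorph).isHomeomorph).symm.trans hdim
  let η : PP := ProjDim18.mkPt k 2 ⊥ Ideal.isPrime_bot (Ideal.IsHomogeneous.bot _) (fun hle => by
    have : (MvPolynomial.X 0 : R) ∈ (⊥ : Ideal R) := hle (Ideal.subset_span ⟨0, rfl⟩)
    exact MvPolynomial.X_ne_zero 0 (Ideal.mem_bot.1 this))
  haveI := y.isPrime
  have hne : y.asHomogeneousIdeal.toIdeal ≠ ⊥ := fun h => by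
    have hall : Y = Set.univ := Set.eq_univ_of_forall fun w =>
      ProjDim18.mem_of_le k 2 hY (x := y) ⟨_, rfl⟩ (show y.asHomogeneousIdeal.toIdeal ≤ _ from h ▸ bot_le)
    rw [hall, IsHomeomorph.topologicalKrullDim_eq _ (Homeomorph.Set.univ PP).isHomeomorph, hdimPP] at hdimY
    exact absurd hdimY (by norm_num)
  obtain ⟨d, F, hd, hF0, hFp, hFy⟩ := exists_prime_form y.asHomogeneousIdeal.toIdeal y.asHomogeneousIdeal.isHomogeneous hne
  have hF' : F.1 ≠ 0 := hFp.ne_zero
  have hspan : Ideal.span {F.1} = y.asHomogeneousIdeal.toIdeal := by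
    have hle : Ideal.span {F.1} ≤ y.asHomogeneousIdeal.toIdeal := (Ideal.span_singleton_le_iff_mem _).2 hFy
    by_contra hne'
    let z : PP := ProjDim18.mkPt k 2 (Ideal.span {F.1}) ((Ideal.span_singleton_prime hF').2 hFp)
      (Ideal.homogeneous_span _ _ (by rintro _ rfl; exact ⟨d, F.2⟩)) fun h => ProjDim18.not_irr_le k 2 y (h.trans hle)
    have h1 : η < z := lt_of_le_of_ne (show (⊥ : Ideal R) ≤ _ from bot_le) fun e => by
      have : F.1 ∈ (⊥ : Ideal R) := by
        rw [show (⊥ : Ideal R) = η.asHomogeneousIdeal.toIdeal from rfl, e]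
        exact Ideal.subset_span rfl
      exact hF' (Ideal.mem_bot.1 this)
    have h2 : z < y := lt_of_le_of_ne (show Ideal.span {F.1} ≤ _ from hle) fun e => hne'
      (congrArg (fun q : PP => q.asHomogeneousIdeal.toIdeal) e)
    obtain ⟨w, hw⟩ : ∃ w ∈ Y, w ≠ y := by
      by_contra h
      push Not at h
      rw [ProjDim18.krullDim_closed k 2 Y hY] at hdimY
      haveI : Subsingleton {x : PP // x ∈ Y} := ⟨fun a b => Subtype.ext ((h a.1 a.2).trans (h b.1 b.2).symm)⟩
      haveI : Nonempty {x : PP // x ∈ Y} := ⟨⟨y, _, rfl⟩⟩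
      rw [Order.krullDim_eq_zero] at hdimY
      exact zero_ne_one hdimY
    have h3 : y < w := lt_of_le_of_ne (hYy w hw.1) (Ne.symm hw.2)
    have c1 := Order.coheight_add_one_le h1
    have c2 := Order.coheight_add_one_le h2
    have c3 := Order.coheight_add_one_le h3
    have h4 := ProjDim18.coheight_le_dim k 2 (X := Set.univ) isClosed_univ (x := η) trivial
    rw [IsHomeomorph.topologicalKrullDim_eq _ (Homeomorph.Set.univ PP).isHomeomorph, hdimPP] at h4
    have h5 : (3 : ℕ∞) ≤ Order.coheight η := by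
      calc (3 : ℕ∞) = 0 + 1 + 1 + 1 := by norm_num
        _ ≤ Order.coheight w + 1 + 1 + 1 := by gcongr; exact zero_le
        _ ≤ Order.coheight y + 1 + 1 := by gcongr
        _ ≤ Order.coheight z + 1 := by gcongr
        _ ≤ _ := c1
    exact absurd ((WithBot.coe_le_coe.2 h5).trans h4) (by
      show ¬ (((3 : ℕ∞) : WithBot ℕ∞) ≤ ((2 : ℕ∞) : WithBot ℕ∞))
      rw [WithBot.coe_le_coe]; norm_num)
  refine ⟨d, F, hd, hF0, Scheme.IdealSheafData.ext_of_iSup_eq_top
    (fun j => ⟨LefPen.chart 2 k j, ProjDim18.isAffineOpen_chart j⟩) ?_ fun j => ?_⟩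
  · refine top_le_iff.1 fun x _ => ?_
    obtain ⟨j, hj⟩ := ProjSpace.exists_mem_chart 2 k x
    refine Opens.mem_iSup.2 ⟨j, ?_⟩
    show x ∈ LefPen.chart 2 k j
    rw [show LefPen.chart 2 k j = (ProjSpace.chart 2 k j).opensRange from (ProjSpace.opensRange_chart 2 k j).symm]
    exact hj
  rw [LefPen13.hypIdeal_chart, Scheme.Hom.ker_apply]
  -- a form vanishes on the curve exactly when it is a multiple of `F` off the line at infinity
  have key : ∀ {D : ℕ} (G : LefPen.Form 2 k D), i.app (LefPen.chart 2 k j) (LefPen.dehom G j) = 0 ↔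
      MvPolynomial.X j * G.1 ∈ y.asHomogeneousIdeal.toIdeal := fun {D} G => by
    constructor
    · intro h
      have hb := congrArg X.basicOpen h
      rw [Scheme.basicOpen_zero, ← Scheme.preimage_basicOpen, ProjDim18.basicOpen_dehom] at hb
      by_contra hmem
      have hg : genericPoint X ∈ i ⁻¹ᵁ (LefPen.chart 2 k j ⊓ Proj.basicOpen (CohB1.polyGrading 2 k) G.1) :=
        ⟨fun hx => hmem (Ideal.mul_mem_right _ _ hx), fun hx => hmem (Ideal.mul_mem_left _ _ hx)⟩
      rw [hb] at hg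
      exact hg
    · intro h
      refine (basicOpen_eq_bot_iff _).1 (Opens.ext (Set.eq_empty_of_forall_notMem fun x hx => ?_))
      rw [← Scheme.preimage_basicOpen, ProjDim18.basicOpen_dehom] at hx
      have hxy : y.asHomogeneousIdeal.toIdeal ≤ (i x : PP).asHomogeneousIdeal.toIdeal := hYy _ ⟨x, rfl⟩
      rcases (i x : PP).isPrime.mem_or_mem (hxy h) with h' | h'
      · exact hx.1 h'
      · exact hx.2 h'
  refine le_antisymm (fun s hs => ?_) ((Ideal.span_singleton_le_iff_mem _).2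
    ((key F).2 (Ideal.mul_mem_left _ _ hFy)))
  obtain ⟨P, rfl⟩ := LefPen13.dh_surjective k 2 j s
  obtain ⟨D, G, hG⟩ := LefPen13.exists_form_eq (𝟙 (CohB1.ProjSpace 2 k)) j P
  have hG' : LefPen13.dh k 2 j G.1 = LefPen13.dh k 2 j P := by
    exact hG
  rw [← hG'] at hs ⊢
  rw [RingHom.mem_ker, ← LefPen13.dehom_eq_dh] at hs
  obtain ⟨Q, hQ⟩ := Ideal.mem_span_singleton.1 (hspan.symm ▸ (key G).1 hs)
  have hdh := congrArg (LefPen13.dh k 2 j) hQ
  rw [map_mul, map_mul, LefPen13.dh_X_self, one_mul, ← LefPen13.dehom_eq_dh F] at hdh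
  exact Ideal.mem_span_singleton.2 ⟨_, hdh⟩

/-- No integral curve in the plane has genus nine. -/
theorem genus_ne_nine {X : Scheme.{u}} [X.Over (Spec (CommRingCat.of k))] [IsIntegral X]
    (hdim : topologicalKrullDim X = 1) (i : X ⟶ CohB1.ProjSpace 2 k) [IsClosedImmersion i]
    (hi : i ≫ CohB1.ProjSpace.toSpec 2 k = X ↘ Spec (CommRingCat.of k)) : Curv2.genus k X ≠ 9 := by
  obtain ⟨d, F, hd, hF, hker⟩ := exists_hyp_ker hdim i
  obtain ⟨e, he⟩ : ∃ e : X ⟶ (LefPen.hypIdeal F).subscheme, IsIso e ∧ e ≫ (LefPen.hypIdeal F).subschemeι = i := by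
    rw [← hker]
    exact ⟨i.toImage, inferInstanceAs (IsIso i.toImage), i.toImage_imageι⟩
  letI : (LefPen.hypIdeal F).subscheme.Over (Spec (CommRingCat.of k)) :=
    ⟨(LefPen.hypIdeal F).subschemeι ≫ CohB1.ProjSpace.toSpec 2 k⟩
  haveI := he.1
  have hg := CurveCoh17.genus_eq_of_iso (k := k) e (by
    show e ≫ (LefPen.hypIdeal F).subschemeι ≫ CohB1.ProjSpace.toSpec 2 k = _
    rw [← Category.assoc, he.2, hi])
  intro h9
  have h1 := (PlaneFF17.cohomology hd F hF rfl).2.2
  have h : (d - 1) * (d - 2) / 2 = 9 := by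
    rw [← h1]
    exact hg.symm.trans h9
  rcases Nat.lt_or_ge d 7 with h7 | h7
  · interval_cases d <;> norm_num at h
  · have : 5 * 6 ≤ (d - 2) * (d - 1) := Nat.mul_le_mul (by omega) (by omega)
    rw [mul_comm] at h
    omega

end Groth.Agent.Cliff17
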