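import Groth.Agent.Lib.Cliff17.Basic

/-!
# The descent step for Clifford index one
-/

set_option linter.style.haveILetI false
set_option autoImplicit false
set_option maxHeartbeats 800000

universe u

open CategoryTheory TopologicalSpace Opposite CategoryTheory.Limits AlgebraicGeometry

namespace Groth.Agent.Cliff17

open Groth.Agent.M1 Groth.Agent.M2 Groth.Agent.CurveCoh17 Groth.Agent.CurveOm17

attribute [local instance] stalkMod

variable {k : Type u} [Field k] {X : Scheme.{u}} [X.Over (Spec (CommRingCat.of k))]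
  [IsAlgClosed k] [IsIntegral X] [IsProper (X ↘ Spec (CommRingCat.of k))] [Smooth (X ↘ Spec (CommRingCat.of k))]
  {W : X.Modules} {lam : Module.Dual k (Coh.HH X W 1)}

/-- A submodule vanishing at two points has degree at most two less. -/
theorem deg_add_two_le (hdim : topologicalKrullDim X = 1) {G V : X.Modules} (hG : PicF.IsInvertible G)
    (hV : PicF.IsInvertible V) (g : G ⟶ V) [Mono g] {P P' : X} (hne : P ≠ P')
    (hP : ∀ a, stalkLin g P a ∈
      IsLocalRing.maximalIdeal (X.presheaf.stalk P) • (⊤ : Submodule (X.presheaf.stalk P) (V.presheaf.stalk P)))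
    (hP' : ∀ a, stalkLin g P' a ∈
      IsLocalRing.maximalIdeal (X.presheaf.stalk P') • (⊤ : Submodule (X.presheaf.stalk P') (V.presheaf.stalk P'))) :
    Curv2.deg k X G 1 + 2 ≤ Curv2.deg k X V 1 := by
  classical
  obtain ⟨hX, -, -⟩ := VB17.setup (k := k) (X := X) hdim
  haveI := hX.like.noetherian
  have hG1 := (isInvertible_iff_isFinLocFreeOfRank_one G).1 hG
  have hV1 := (isInvertible_iff_isFinLocFreeOfRank_one V).1 hV
  have hinj := (mono_iff_stalk g).1 inferInstance
  have hCc := isCoh_cokernel (isCoh_of_ofRank hG1).1 (isCoh_of_ofRank hV1) g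
  obtain ⟨S, hS⟩ := exists_suppIn_of_maximal hX.like.dim hCc fun x hx =>
    eq_genericPoint_of_maximal hx ▸ eq_zero_stalk_cokernel g _
      (surjective_stalkLin_genericPoint (nonempty_stalk_equiv hG1 _) (nonempty_stalk_equiv hV1 _) g
        (hinj (genericPoint X)))
  let T : ShortComplex X.Modules := ShortComplex.mk g (cokernel.π g) (cokernel.condition g)
  have hT : T.ShortExact := { exact := T.exact_of_g_is_cokernel (cokernelIsCokernel g) }
  have aG := hX.like.adm (isCoh_of_ofRank hG1)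
  have aC := hX.like.adm hCc
  have he := euler_add (k := k) hT aG aC
  change Curv2.euler k X V = Curv2.euler k X G + Curv2.euler k X (cokernel g) at he
  rw [hS.euler_eq (aC.fin 0)] at he
  haveI := aC.fin 0
  -- nonzero elements of the cokernel at the two points
  have hpt : ∀ x : X, (∀ a, stalkLin g x a ∈
      IsLocalRing.maximalIdeal (X.presheaf.stalk x) • (⊤ : Submodule (X.presheaf.stalk x) (V.presheaf.stalk x))) →
      ∃ hxS : x ∈ S, ∃ c : (cokernel g).presheaf.stalk ((⟨x, hxS⟩ : S) : X), c ≠ 0 := fun x hx => by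
    obtain ⟨w, hw⟩ := exists_not_mem_smul hV x
    have hc : stalkLin (cokernel.π g) x w ≠ 0 := fun h => by
      obtain ⟨a, ha⟩ := (exact_iff_stalk_eq_zero T).1 hT.exact x w h
      exact hw (ha ▸ hx a)
    have hxS : x ∈ S := by
      by_contra h
      exact hc (hS.zero x h _)
    exact ⟨hxS, _, hc⟩
  obtain ⟨hPS, c, hc⟩ := hpt P hP
  obtain ⟨hP'S, c', hc'⟩ := hpt P' hP'
  let e := hS.h0Equiv k
  let z1 := e.symm (Pi.single (⟨P, hPS⟩ : S) c)
  let z2 := e.symm (Pi.single (⟨P', hP'S⟩ : S) c')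
  have hne' : (⟨P, hPS⟩ : S) ≠ ⟨P', hP'S⟩ := fun h => hne (congrArg Subtype.val h)
  have hli : LinearIndependent k ![z1, z2] := by
    have hz1 : z1 ≠ 0 := fun h => hc (by
      have := congrFun (congrArg e h) ⟨P, hPS⟩
      rwa [LinearEquiv.apply_symm_apply, map_zero, Pi.single_eq_same] at this)
    rw [LinearIndependent.pair_iff' hz1]
    intro a h
    have := congrFun (congrArg e h) ⟨P', hP'S⟩
    rw [map_smul, LinearEquiv.apply_symm_apply, LinearEquiv.apply_symm_apply, Pi.smul_apply,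
      Pi.single_eq_of_ne hne'.symm, smul_zero, Pi.single_eq_same] at this
    exact hc' this.symm
  have h2 : 2 ≤ Module.finrank k (Coh.HH X (cokernel g) 0) := by simpa using hli.fintype_card_le_finrank
  simp only [Curv2.deg]
  omega

/-- There is a section vanishing at three given points. -/
theorem exists_vanish_three (hX : CurveLike k X) {L : X.Modules} (hL : PicF.IsInvertible L)
    [Module.Finite k (Coh.HH X L 0)] (h4 : 4 ≤ Module.finrank k (Coh.HH X L 0)) {P P' Q : X}
    (hP : IsClosed ({P} : Set X)) (hP' : IsClosed ({P'} : Set X)) (hQ : IsClosed ({Q} : Set X)) :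
    ∃ zs : Coh.HH X L 0, zs ≠ 0 ∧
      (L.presheaf.germ ⊤ P trivial (hh0 L zs) : L.presheaf.stalk P) ∈
        IsLocalRing.maximalIdeal (X.presheaf.stalk P) • (⊤ : Submodule (X.presheaf.stalk P) (L.presheaf.stalk P)) ∧
      (L.presheaf.germ ⊤ P' trivial (hh0 L zs) : L.presheaf.stalk P') ∈
        IsLocalRing.maximalIdeal (X.presheaf.stalk P') • (⊤ : Submodule (X.presheaf.stalk P') (L.presheaf.stalk P')) ∧
      (L.presheaf.germ ⊤ Q trivial (hh0 L zs) : L.presheaf.stalk Q) ∈
        IsLocalRing.maximalIdeal (X.presheaf.stalk Q) • (⊤ : Submodule (X.presheaf.stalk Q) (L.presheaf.stalk Q)) := by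
  let R : ∀ (x : X), IsClosed ({x} : Set X) → Submodule k (Coh.HH X L 0) := fun x hx =>
    LinearMap.range (hmap k (pointIncl hx L) 0)
  have hcod : ∀ (x : X) (hx : IsClosed ({x} : Set X)),
      Module.finrank k (Coh.HH X L 0) ≤ Module.finrank k (R x hx) + 1 :=
    fun x hx => by
      have hS : (pointSC hx L).ShortExact := twistSES hL _
      haveI : IsIso (tensorLUnit L).hom := (tensorLUnit L).isIso_hom
      haveI : Mono (pointIncl hx L) := @mono_comp _ _ _ _ _ _ hS.mono_f _
        (@IsIso.mono_of_iso _ _ _ _ _ (tensorLUnit L).isIso_hom)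
      rw [finrank_range_of_mono]
      refine (hX.h0_le_twist_add_one hL hx).trans (le_of_eq ?_)
      congr 1
      exact (hequiv k (tensorComm _ _) 0).finrank_eq
  have h1 := hcod P hP
  have h2 := hcod P' hP'
  have h3 := hcod Q hQ
  have s1 := Submodule.finrank_sup_add_finrank_inf_eq (R P hP) (R P' hP')
  have t1 := Submodule.finrank_le (R P hP ⊔ R P' hP')
  have s2 := Submodule.finrank_sup_add_finrank_inf_eq (R P hP ⊓ R P' hP') (R Q hQ)
  have t2 := Submodule.finrank_le (R P hP ⊓ R P' hP' ⊔ R Q hQ)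
  have hne : R P hP ⊓ R P' hP' ⊓ R Q hQ ≠ ⊥ := by
    intro h
    rw [h, finrank_bot] at s2
    omega
  obtain ⟨zs, ⟨⟨hm1, hm2⟩, hm3⟩, hzs⟩ := Submodule.exists_mem_ne_zero_of_ne_bot hne
  exact ⟨zs, hzs, (germ_mem_iff hL hP zs).2 (LinearMap.mem_range.1 hm1),
    (germ_mem_iff hL hP' zs).2 (LinearMap.mem_range.1 hm2), (germ_mem_iff hL hQ zs).2 (LinearMap.mem_range.1 hm3)⟩

variable (k) in
include k in
omit [IsAlgClosed k] [Smooth (X ↘ Spec (CommRingCat.of k))] in
/-- A curve has two closed points. -/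
theorem exists_two_closed (hdim : topologicalKrullDim X = 1) :
    ∃ P P' : X, IsClosed ({P} : Set X) ∧ IsClosed ({P'} : Set X) ∧ P ≠ P' := by
  haveI : JacobsonSpace X := LocallyOfFiniteType.jacobsonSpace (X ↘ Spec (CommRingCat.of k))
  obtain ⟨P, -, hP⟩ := nonempty_inter_closedPoints (Z := (Set.univ : Set X)) Set.univ_nonempty isOpen_univ.isLocallyClosed
  rw [mem_closedPoints_iff] at hP
  obtain ⟨P', hP'1, hP'⟩ := nonempty_inter_closedPoints (Z := ({P} : Set X)ᶜ)
    ⟨genericPoint X, fun h => genericPoint_ne_of_isClosed hdim hP h⟩ hP.isOpen_compl.isLocallyClosed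
  rw [mem_closedPoints_iff] at hP'
  exact ⟨P, P', hP, hP', fun h => hP'1 h.symm⟩

/-- The kernel and the image of `L ⊕ M → W`. -/
theorem split_step (hdim : topologicalKrullDim X = 1) (hW : VB17.IsDualizing k W lam) (nh : NH k X) {L M : X.Modules}
    (hL : PicF.IsInvertible L) (hM : PicF.IsInvertible M) (φ1 : L ⟶ W) (φ2 : M ⟶ W) [Mono φ1] [Mono φ2] (P P' Q : X)
    (hne : P ≠ P')
    (hP1 : ∀ a, stalkLin φ1 P a ∈
      IsLocalRing.maximalIdeal (X.presheaf.stalk P) • (⊤ : Submodule (X.presheaf.stalk P) (W.presheaf.stalk P)))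
    (hP2 : ∀ a, stalkLin φ2 P a ∈
      IsLocalRing.maximalIdeal (X.presheaf.stalk P) • (⊤ : Submodule (X.presheaf.stalk P) (W.presheaf.stalk P)))
    (hP1' : ∀ a, stalkLin φ1 P' a ∈
      IsLocalRing.maximalIdeal (X.presheaf.stalk P') • (⊤ : Submodule (X.presheaf.stalk P') (W.presheaf.stalk P')))
    (hP2' : ∀ a, stalkLin φ2 P' a ∈
      IsLocalRing.maximalIdeal (X.presheaf.stalk P') • (⊤ : Submodule (X.presheaf.stalk P') (W.presheaf.stalk P')))
    (hQ1 : Function.Surjective (stalkLin φ1 Q))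
    (hQ2 : ∀ a, stalkLin φ2 Q a ∈
      IsLocalRing.maximalIdeal (X.presheaf.stalk Q) • (⊤ : Submodule (X.presheaf.stalk Q) (W.presheaf.stalk Q)))
    (hdM : Curv2.deg k X M 1 = 2 * (Curv2.genus k X : ℤ) - 2 - Curv2.deg k X L 1)
    (hq : (Curv2.genus k X : ℤ) ≤ Module.finrank k (Coh.HH X L 0) + Module.finrank k (Coh.HH X M 0))
    (heq : 2 * (Module.finrank k (Coh.HH X L 0) : ℤ) = Curv2.deg k X L 1 + 1)
    (h1L : 2 ≤ Module.finrank k (Coh.HH X L 1)) :
    ∃ K : X.Modules, PicF.IsInvertible K ∧ Module.finrank k (Coh.HH X K 0) < Module.finrank k (Coh.HH X L 0) ∧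
      2 ≤ Module.finrank k (Coh.HH X K 0) ∧ 2 ≤ Module.finrank k (Coh.HH X K 1) ∧
      2 * (Module.finrank k (Coh.HH X K 0) : ℤ) = Curv2.deg k X K 1 + 1 := by
  obtain ⟨hX, h0, hbig⟩ := VB17.setup (k := k) (X := X) hdim
  haveI := hX.like.noetherian
  obtain ⟨hW0, hW1, hWd⟩ := hW.invariants hX h0 hbig
  have hLrr := rr_nat (k := k) hdim hL
  have hLr := (isInvertible_iff_isFinLocFreeOfRank_one L).1 hL
  have hMr := (isInvertible_iff_isFinLocFreeOfRank_one M).1 hM
  have hWr := (isInvertible_iff_isFinLocFreeOfRank_one W).1 hW.inv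
  haveI := hX.like.fin L (isCoh_of_ofRank hLr) 0
  haveI := hX.like.fin M (isCoh_of_ofRank hMr) 0
  haveI := hX.like.fin W (isCoh_of_ofRank hWr) 0
  -- kernel and image
  let PP : X.Modules := L ⊞ M
  let ψ : PP ⟶ W := biprod.desc φ1 φ2
  let K := kernel ψ
  let ι : K ⟶ PP := kernel.ι ψ
  let S : ShortComplex X.Modules := ShortComplex.mk ι (cokernel.π ι) (cokernel.condition ι)
  have hS : S.ShortExact := { exact := S.exact_of_g_is_cokernel (cokernelIsCokernel ι) }
  let G := cokernel ι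
  let g : G ⟶ W := Abelian.factorThruCoimage ψ
  haveI : Mono g := inferInstanceAs (Mono (Abelian.factorThruCoimage ψ))
  have hg : cokernel.π ι ≫ g = ψ := Abelian.coimage.fac ψ
  let R : ShortComplex X.Modules := ShortComplex.mk (biprod.inl : L ⟶ PP) (biprod.snd : PP ⟶ M) biprod.inl_snd
  have hR : R.ShortExact := (ShortComplex.Splitting.ofHasBinaryBiproduct L M).shortExact
  have aL := hX.like.adm (isCoh_of_ofRank hLr)
  have aM := hX.like.adm (isCoh_of_ofRank hMr)
  have aP : Adm k PP := adm₂ hR aL aM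
  have hPc : Coh.IsCoh PP := RHom.isCoh_of_shortExact hR (isCoh_of_ofRank hLr) (isCoh_of_ofRank hMr)
  have hKc : Coh.IsCoh K := M1.isCoh_kernel hPc (isCoh_of_ofRank hWr).1 ψ
  have hGc : Coh.IsCoh G := M1.isCoh_cokernel hKc.1 hPc ι
  haveI : Mono (ι ≫ (biprod.fst : PP ⟶ L)) := by
    refine Preadditive.mono_of_cancel_zero _ fun {T} z hz => ?_
    have h2 : z ≫ ι ≫ (biprod.snd : PP ⟶ M) = 0 := by
      rw [← cancel_mono φ2, zero_comp, Category.assoc, Category.assoc]
      have h3 : z ≫ ι ≫ ψ = 0 := by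
        rw [show ι ≫ ψ = 0 from kernel.condition ψ, comp_zero]
      have hψ : ψ = (biprod.fst : PP ⟶ L) ≫ φ1 + (biprod.snd : PP ⟶ M) ≫ φ2 := biprod.desc_eq
      rw [hψ, Preadditive.comp_add, Preadditive.comp_add] at h3
      have h4 : z ≫ ι ≫ (biprod.fst : PP ⟶ L) ≫ φ1 = 0 := by
        have := congrArg (· ≫ φ1) hz
        simpa only [Category.assoc, zero_comp] using this
      rwa [h4, zero_add] at h3
    rw [← cancel_mono ι, zero_comp]
    refine biprod.hom_ext _ _ ?_ ?_
    · rw [Category.assoc, zero_comp]; exact hz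
    · rw [Category.assoc, zero_comp]; exact h2
  haveI := hX.like.fin K hKc 0
  haveI := hX.like.fin G hGc 0
  haveI := aP.fin 0
  -- dimensions of sections
  have hsum : Module.finrank k (Coh.HH X L 0) + Module.finrank k (Coh.HH X M 0) ≤ Module.finrank k (Coh.HH X PP 0) :=
    h0_add_le (biprod.inl : L ⟶ PP) biprod.inr biprod.fst biprod.snd biprod.inl_fst biprod.inr_snd biprod.inl_snd
      biprod.inr_fst
  have hmid : Module.finrank k (Coh.HH X PP 0) ≤ Module.finrank k (Coh.HH X K 0) + Module.finrank k (Coh.HH X G 0) := by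
    exact h0_le_of_cokernel (k := k) ι
  have hGle := h0_le_of_mono (k := k) g
  have hKle := h0_le_of_mono (k := k) (ι ≫ (biprod.fst : PP ⟶ L))
  have hrank : ∀ {N E : X.Modules}, Coh.IsCoh N → FlatMod.IsFinLocFreeOfRank 1 E → ∀ f : N ⟶ E, Mono f →
      FlatMod.IsFinLocFreeOfRank 1 N ∨ Module.finrank k (Coh.HH X N 0) = 0 := by
    intro N E hN hE f hf
    haveI := hf
    obtain ⟨r, hr, hNr⟩ := VB17.exists_rank_of_mono hX.pid hE hN f
    rcases Nat.le_one_iff_eq_zero_or_eq_one.1 hr with h | h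
    · subst h
      have hz := VB17.isZero_of_rank_zero hNr
      haveI : Subsingleton (Coh.HH X N 0) := subsingleton_of_forall_eq 0 fun x => by
        have h := hmap_id (A := k) N 0 x
        rw [hz.eq_of_src (𝟙 N) 0, hmap_zero] at h
        exact h.symm
      exact Or.inr Module.finrank_zero_of_subsingleton
    · exact Or.inl (h ▸ hNr)
  -- the image is small
  have hGP : ∀ x : X, (∀ a, stalkLin φ1 x a ∈
      IsLocalRing.maximalIdeal (X.presheaf.stalk x) • (⊤ : Submodule (X.presheaf.stalk x) (W.presheaf.stalk x))) →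
      (∀ a, stalkLin φ2 x a ∈
      IsLocalRing.maximalIdeal (X.presheaf.stalk x) • (⊤ : Submodule (X.presheaf.stalk x) (W.presheaf.stalk x))) →
      ∀ b, stalkLin g x b ∈
      IsLocalRing.maximalIdeal (X.presheaf.stalk x) • (⊤ : Submodule (X.presheaf.stalk x) (W.presheaf.stalk x)) := by
    intro x h1 h2 b
    obtain ⟨a, rfl⟩ := (epi_iff_stalk (cokernel.π ι)).1 inferInstance x b
    erw [← stalkLin_comp]
    rw [hg, eq_inl_add_inr x a, map_add, ← stalkLin_comp (biprod.inl : L ⟶ PP) ψ,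
      ← stalkLin_comp (biprod.inr : M ⟶ PP) ψ]
    erw [biprod.inl_desc, biprod.inr_desc]
    exact add_mem (h1 _) (h2 _)
  -- degrees
  have hE1 := euler_add (k := k) hS (hX.like.adm hKc) (hX.like.adm hGc)
  have hE2 := euler_add (k := k) hR aL aM
  change Curv2.euler k X PP = Curv2.euler k X K + Curv2.euler k X G at hE1
  change Curv2.euler k X PP = Curv2.euler k X L + Curv2.euler k X M at hE2
  have hdeg : Curv2.deg k X K 1 + Curv2.deg k X G 1 = 2 * (Curv2.genus k X : ℤ) - 2 := by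
    simp only [Curv2.deg] at hdM ⊢
    omega
  have hKlt' : FlatMod.IsFinLocFreeOfRank 1 K → Curv2.deg k X K 1 < Curv2.deg k X L 1 := fun hKr => by
    obtain ⟨hKd, hKiso⟩ := VB17.deg_le_of_mono hX.like hKr hLr (ι ≫ (biprod.fst : PP ⟶ L))
    refine lt_of_le_of_ne hKd fun h => ?_
    haveI := hKiso h
    obtain ⟨w, hw⟩ := exists_not_mem_smul hW.inv Q
    obtain ⟨a, rfl⟩ := hQ1 w
    obtain ⟨b, rfl⟩ := surjective_stalkLin_of_isIso (ι ≫ (biprod.fst : PP ⟶ L)) Q a
    refine hw ?_
    have h0' : stalkLin ψ Q (stalkLin ι Q b) = 0 := by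
      rw [← stalkLin_comp, show ι ≫ ψ = 0 from kernel.condition ψ]
      show (stalkAb Q).map (0 : K ⟶ W) b = 0
      rw [Functor.map_zero]
      rfl
    rw [eq_inl_add_inr Q (stalkLin ι Q b), map_add, ← stalkLin_comp (biprod.inl : L ⟶ PP) ψ,
      ← stalkLin_comp (biprod.inr : M ⟶ PP) ψ] at h0'
    erw [biprod.inl_desc, biprod.inr_desc] at h0'
    rw [stalkLin_comp, eq_neg_of_add_eq_zero_left h0']
    exact neg_mem (hQ2 _)
  rcases hrank hGc hWr g inferInstance with hGr | hG0
  · have hGi := (isInvertible_iff_isFinLocFreeOfRank_one G).2 hGr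
    have hG2 := deg_add_two_le (k := k) hdim hGi hW.inv g hne (hGP P hP1 hP2) (hGP P' hP1' hP2')
    rw [hWd] at hG2
    have hG1 := h1_le_of_mono (k := k) hdim hGi hW.inv g
    rcases hrank hKc hLr (ι ≫ (biprod.fst : PP ⟶ L)) inferInstance with hKr | hK0
    · have hKi := (isInvertible_iff_isFinLocFreeOfRank_one K).2 hKr
      have hKlt := hKlt' hKr
      have hK1 := h1_le_of_mono (k := k) hdim hKi hL (ι ≫ (biprod.fst : PP ⟶ L))
      have hKrr := rr_nat (k := k) hdim hKi
      have hGrr := rr_nat (k := k) hdim hGi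
      have hdLg : Curv2.deg k X L 1 ≤ 2 * (Curv2.genus k X : ℤ) - 2 := by omega
      have nG := nh G hGi
      have nK := nh K hKi
      have cG : 1 ≤ Module.finrank k (Coh.HH X G 0) →
          2 * (Module.finrank k (Coh.HH X G 0) : ℤ) ≤ Curv2.deg k X G 1 + 1 :=
        fun h => nG h (by omega) (by omega) (by omega)
      have cK : 1 ≤ Module.finrank k (Coh.HH X K 0) →
          2 * (Module.finrank k (Coh.HH X K 0) : ℤ) ≤ Curv2.deg k X K 1 + 1 :=
        fun h => nK h (by omega) (by omega) (by omega)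
      by_cases hk : 1 ≤ Module.finrank k (Coh.HH X K 0)
      · by_cases hgg : 1 ≤ Module.finrank k (Coh.HH X G 0)
        · have := cG hgg
          have := cK hk
          exact ⟨K, hKi, by omega, by omega, by omega, by omega⟩
        · omega
      · omega
    · have := clifford_le (k := k) hdim hGi (by omega) (by omega)
      omega
  · omega

/-- From `2 h⁰ = deg + 1`, a smaller such module. -/
theorem exists_step (hdim : topologicalKrullDim X = 1) (hW : VB17.IsDualizing k W lam) (nh : NH k X) {L : X.Modules}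
    (hL : PicF.IsInvertible L) (heq : 2 * (Module.finrank k (Coh.HH X L 0) : ℤ) = Curv2.deg k X L 1 + 1)
    (h4 : 4 ≤ Module.finrank k (Coh.HH X L 0)) (h13 : 3 ≤ Module.finrank k (Coh.HH X L 1)) :
    ∃ K : X.Modules, PicF.IsInvertible K ∧ Module.finrank k (Coh.HH X K 0) < Module.finrank k (Coh.HH X L 0) ∧
      2 ≤ Module.finrank k (Coh.HH X K 0) ∧ 2 ≤ Module.finrank k (Coh.HH X K 1) ∧
      2 * (Module.finrank k (Coh.HH X K 0) : ℤ) = Curv2.deg k X K 1 + 1 := by
  obtain ⟨hX, h0, hbig⟩ := VB17.setup (k := k) (X := X) hdim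
  haveI := hX.like.noetherian
  obtain ⟨M, hM, hdM, h1, ⟨e2⟩⟩ := exists_residual hdim hW hL
  haveI := hX.like.fin L (isCoh_of_ofRank ((isInvertible_iff_isFinLocFreeOfRank_one L).1 hL)) 0
  haveI := hX.like.fin M (isCoh_of_ofRank ((isInvertible_iff_isFinLocFreeOfRank_one M).1 hM)) 0
  have hrr := rr_nat (k := k) hdim hL
  obtain ⟨P, P', hP, hP', hne⟩ := exists_two_closed k hdim
  obtain ⟨zt, hzt, htP, htP'⟩ := exists_vanish_two (k := k) hX.like hM (by omega) hP hP'
  obtain ⟨Q, hQ, htQ⟩ := exists_closed_not_vanish k hdim hM hzt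
  obtain ⟨zs, hzs, hsP, hsP', hsQ⟩ := exists_vanish_three (k := k) hX.like hL h4 hP hP' hQ
  let e1 : CohB1.tensorMod M L ≅ W := tensorComm _ _ ≪≫ e2
  have hmono : ∀ {A B : X.Modules} (e : CohB1.tensorMod B A ≅ W) (hA : PicF.IsInvertible A)
      (hB : PicF.IsInvertible B) {z : Coh.HH X B 0}, z ≠ 0 → Mono (mulTo e (hh0 B z)) := by
    intro A B e hA hB z hz
    refine VB17.mono_of_ne_zero hX hA hW.inv _ fun h => ?_
    obtain ⟨R, -, hR⟩ := exists_closed_not_vanish k hdim hB hz
    obtain ⟨w, hw⟩ := exists_not_mem_smul hW.inv R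
    obtain ⟨a, ha⟩ := mulTo_surjective e hB _ R hR w
    refine hw ?_
    rw [← ha, h]
    show (stalkAb R).map (0 : A ⟶ W) a ∈ _
    rw [Functor.map_zero]
    exact zero_mem _
  haveI : Mono (mulTo e1 (hh0 M zt)) := hmono e1 hL hM hzt
  haveI : Mono (mulTo e2 (hh0 L zs)) := hmono e2 hM hL hzs
  exact split_step hdim hW nh hL hM (mulTo e1 (hh0 M zt)) (mulTo e2 (hh0 L zs)) P P' Q hne
    (mulTo_mem_smul e1 _ P htP) (mulTo_mem_smul e2 _ P hsP) (mulTo_mem_smul e1 _ P' htP')
    (mulTo_mem_smul e2 _ P' hsP') (mulTo_surjective e1 hM _ Q htQ) (mulTo_mem_smul e2 _ Q hsQ) hdM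
    (by omega) heq (by omega)

end Groth.Agent.Cliff17
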