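import Groth.Agent.Lib.Cliff17.Main

/-!
# Invertible modules of Clifford index one on a trigonal curve
-/

set_option linter.style.haveILetI false
set_option autoImplicit false
set_option maxHeartbeats 800000

universe u

open CategoryTheory TopologicalSpace Opposite CategoryTheory.Limits AlgebraicGeometry

namespace Groth.Agent.Cliff17

open Groth.Agent.M1 Groth.Agent.M2 Groth.Agent.CurveCoh17

variable {k : Type u} [Field k] {X : Scheme.{u}} [X.Over (Spec (CommRingCat.of k))]
  [IsAlgClosed k] [IsIntegral X] [IsProper (X ↘ Spec (CommRingCat.of k))]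
  [Smooth (X ↘ Spec (CommRingCat.of k))]

/-- The trick of the pencil: two sections `s`, `v` of `T` bound the sections of `M`. -/
theorem pencil_trick (hdim : topologicalKrullDim X = 1) {T M : X.Modules} (hT : PicF.IsInvertible T)
    (hM : PicF.IsInvertible M) {s v : Coh.HH X T 0} (hsv : LinearIndependent k ![s, v]) :
    ∃ K I : X.Modules, PicF.IsInvertible K ∧ PicF.IsInvertible I ∧
      Curv2.deg k X K 1 + Curv2.deg k X I 1 = 0 ∧ Curv2.deg k X I 1 ≤ Curv2.deg k X T 1 ∧
      2 ≤ Module.finrank k (Coh.HH X I 0) ∧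
      2 * Module.finrank k (Coh.HH X M 0) ≤ Module.finrank k (Coh.HH X (CohB1.tensorMod K M) 0) +
        Module.finrank k (Coh.HH X (CohB1.tensorMod I M) 0) := by
  obtain ⟨hX, h0, hbig⟩ := VB17.setup (k := k) (X := X) hdim
  haveI := hX.like.noetherian
  let O := Coh.structureModule X
  have hO := PicLoc.isInvertible_structureModule X
  have hO1 := (isInvertible_iff_isFinLocFreeOfRank_one O).1 hO
  have hT1 := (isInvertible_iff_isFinLocFreeOfRank_one T).1 hT
  let f : (O ⊞ O : X.Modules) ⟶ T := biprod.desc (secHom (hh0 T s)) (secHom (hh0 T v))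
  have hin1 : hmap k f 0 (hmap k (biprod.inl : O ⟶ O ⊞ O) 0 (oneH k X)) = s := by
    rw [← hmap_comp]; erw [biprod.inl_desc]; exact hmap_secHom_oneH s
  have hin2 : hmap k f 0 (hmap k (biprod.inr : O ⟶ O ⊞ O) 0 (oneH k X)) = v := by
    rw [← hmap_comp]; erw [biprod.inr_desc]; exact hmap_secHom_oneH v
  obtain ⟨n, hn⟩ := VB17.exists_rank_biprod hX hO1 hO1
  have hO2 : (ShortComplex.mk (biprod.inl : O ⟶ O ⊞ O) (biprod.snd : O ⊞ O ⟶ O) biprod.inl_snd).ShortExact :=
    (ShortComplex.Splitting.ofHasBinaryBiproduct O O).shortExact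
  obtain rfl : n = 2 := VB17.rank_add hO2 hO1 hn hO1
  obtain ⟨rK, rI, hK, hI, hsum, hle, hI0, -⟩ := VB17.exists_image hX.pid hn hT1 f
  have hs0 : s ≠ 0 := hsv.ne_zero 0
  have hrI : rI = 1 := by
    rcases Nat.le_one_iff_eq_zero_or_eq_one.1 hle with h | h
    · exfalso
      rw [hI0.1 h, hmap_zero] at hin1
      exact hs0 hin1.symm
    · exact h
  subst hrI
  obtain rfl : rK = 1 := by omega
  have hG := (isInvertible_iff_isFinLocFreeOfRank_one (Abelian.image f)).2 hI
  have hKi := (isInvertible_iff_isFinLocFreeOfRank_one (kernel f)).2 hK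
  haveI := hX.like.fin (Abelian.image f) (isCoh_of_ofRank hI) 0
  have h2G : 2 ≤ Module.finrank k (Coh.HH X (Abelian.image f) 0) := by
    have hv : LinearIndependent k ![hmap k (Abelian.factorThruImage f) 0 (hmap k (biprod.inl : O ⟶ O ⊞ O) 0 (oneH k X)),
        hmap k (Abelian.factorThruImage f) 0 (hmap k (biprod.inr : O ⟶ O ⊞ O) 0 (oneH k X))] := by
      refine LinearIndependent.of_comp (hmap k (Abelian.image.ι f) 0) ?_
      convert hsv using 1
      funext i
      fin_cases i
      · show hmap k (Abelian.image.ι f) 0 (hmap k (Abelian.factorThruImage f) 0 _) = s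
        rw [← hmap_comp, Abelian.image.fac]; exact hin1
      · show hmap k (Abelian.image.ι f) 0 (hmap k (Abelian.factorThruImage f) 0 _) = v
        rw [← hmap_comp, Abelian.image.fac]; exact hin2
    simpa using hv.fintype_card_le_finrank
  obtain ⟨hGd, -⟩ := VB17.deg_le_of_mono hX.like hI hT1 (Abelian.image.ι f)
  have hdeg : Curv2.deg k X (kernel f) 1 + Curv2.deg k X (Abelian.image f) 1 = 0 := by
    have e1 := VB17.deg_add hX.like (kerSC_shortExact f) hK hn hI
    have e2 := VB17.deg_add hX.like hO2 hO1 hn hO1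
    change Curv2.deg k X (O ⊞ O : X.Modules) _ = Curv2.deg k X O 1 + Curv2.deg k X O 1 at e2
    rw [deg_structureModule] at e2
    change Curv2.deg k X (O ⊞ O : X.Modules) _ = Curv2.deg k X (kernel f) 1 + Curv2.deg k X (Abelian.image f) 1 at e1
    linarith
  refine ⟨kernel f, Abelian.image f, hKi, hG, hdeg, hGd, h2G, ?_⟩
  have hKM := isInvertible_tensor hKi hM
  have hGM := isInvertible_tensor hG hM
  haveI := hX.like.fin _ (isCoh_of_ofRank ((isInvertible_iff_isFinLocFreeOfRank_one _).1 hKM)) 0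
  haveI := hX.like.fin _ (isCoh_of_ofRank ((isInvertible_iff_isFinLocFreeOfRank_one _).1 hGM)) 0
  haveI := hX.like.fin M (isCoh_of_ofRank ((isInvertible_iff_isFinLocFreeOfRank_one _).1 hM)) 0
  have hS := shortExact_tensorR (kerSC_shortExact f) M fun x => VB17.flat_stalk hM x
  let P : Coh.HH X M 0 × Coh.HH X M 0 →ₗ[k] Coh.HH X (CohB1.tensorMod (O ⊞ O) M) 0 :=
    (mul2 k (O ⊞ O) M (hmap k (biprod.inl : O ⟶ O ⊞ O) 0 (oneH k X))).coprod
      (mul2 k (O ⊞ O) M (hmap k (biprod.inr : O ⟶ O ⊞ O) 0 (oneH k X)))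
  have hP : Function.Injective P := by
    rw [injective_iff_map_eq_zero]
    rintro ⟨a, b⟩ hab
    change mul2 k (O ⊞ O) M _ a + mul2 k (O ⊞ O) M _ b = 0 at hab
    have ha := congrArg (hmap k (tensorMap (biprod.fst : O ⊞ O ⟶ O) (𝟙 M)) 0) hab
    have hb := congrArg (hmap k (tensorMap (biprod.snd : O ⊞ O ⟶ O) (𝟙 M)) 0) hab
    rw [map_add, map_zero, hmap_mul2, hmap_mul2, ← hmap_comp, ← hmap_comp, biprod.inl_fst, biprod.inr_fst,
      hmap_id, hmap_id, hmap_id, hmap_zero, LinearMap.map_zero, LinearMap.zero_apply, add_zero] at ha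
    rw [map_add, map_zero, hmap_mul2, hmap_mul2, ← hmap_comp, ← hmap_comp, biprod.inl_snd, biprod.inr_snd,
      hmap_id, hmap_id, hmap_id, hmap_zero, LinearMap.map_zero, LinearMap.zero_apply, zero_add] at hb
    exact Prod.ext (mul2_oneH_injective (ha.trans (map_zero _).symm)) (mul2_oneH_injective (hb.trans (map_zero _).symm))
  let g := hmap k (tensorMap (Abelian.factorThruImage f) (𝟙 M)) 0
  let Q := g ∘ₗ P
  have hrn := Q.finrank_range_add_finrank_ker
  have hr := Submodule.finrank_le (LinearMap.range Q)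
  have hk : Submodule.map P (LinearMap.ker Q) ≤ LinearMap.range (hmap k (tensorMap (kernel.ι f) (𝟙 M)) 0) := by
    rintro _ ⟨q, hq, rfl⟩
    exact (exact_hmap_hmap k hS 0 (P q)).1 (LinearMap.mem_ker.1 hq)
  haveI : Module.Finite k (LinearMap.range (hmap k (tensorMap (kernel.ι f) (𝟙 M)) 0)) := inferInstance
  have hk' := Submodule.finrank_mono hk
  rw [← (Submodule.equivMapOfInjective P hP (LinearMap.ker Q)).finrank_eq] at hk'
  have hr2 := LinearMap.finrank_range_le (hmap k (tensorMap (kernel.ι f) (𝟙 M)) 0)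
  rw [Module.finrank_prod] at hrn
  omega

/-- On a trigonal curve only the pencil and its residual have Clifford index one. -/
theorem two_or_two_of_trigonal (hdim : topologicalKrullDim X = 1) (hg : 5 ≤ Curv2.genus k X) (nh : NH k X)
    {T : X.Modules} (hT : PicF.IsInvertible T) (hd : Curv2.deg k X T 1 = 3)
    (hT2 : 2 ≤ Module.finrank k (Coh.HH X T 0)) {M : X.Modules} (hM : PicF.IsInvertible M)
    (heq : 2 * (Module.finrank k (Coh.HH X M 0) : ℤ) = Curv2.deg k X M 1 + 1) :
    Module.finrank k (Coh.HH X M 0) ≤ 2 ∨ Module.finrank k (Coh.HH X M 1) ≤ 2 := by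
  obtain ⟨hX, -, -⟩ := VB17.setup (k := k) (X := X) hdim
  haveI := hX.like.noetherian
  by_contra hcon
  obtain ⟨h3, h13⟩ := not_or.1 hcon
  obtain ⟨v, hv⟩ := exists_linearIndependent_of_le_finrank hT2
  have hv' : LinearIndependent k ![v 0, v 1] := by
    convert hv using 1
    funext i; fin_cases i <;> rfl
  obtain ⟨K, I, hK, hI, hKI, hId, hI2, hle⟩ := pencil_trick hdim hT hM hv'
  have hI3 : Curv2.deg k X I 1 = 3 := by
    by_contra hne
    by_cases h1 : Curv2.deg k X I 1 ≤ 1
    · have := h0_le_one hdim (by omega) nh hI h1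
      omega
    · have := rr_nat (k := k) hdim hI
      have := nh _ hI (by omega) (by omega) (by omega) (by omega)
      omega
  have hKM := isInvertible_tensor hK hM
  have hIM := isInvertible_tensor hI hM
  have dKM := hX.like.deg_tensor_invertible hK hM
  have dIM := hX.like.deg_tensor_invertible hI hM
  have rM := rr_nat (k := k) hdim hM
  have rKM := rr_nat (k := k) hdim hKM
  have rIM := rr_nat (k := k) hdim hIM
  by_cases hIM1 : 1 ≤ Module.finrank k (Coh.HH X (CohB1.tensorMod I M) 1)
  · have hIM0 : 1 ≤ Module.finrank k (Coh.HH X (CohB1.tensorMod I M) 0) := by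
      by_contra hne
      have := clifford_le hdim hKM (by linarith) (by omega)
      omega
    have n' := nh _ hIM hIM0 hIM1 (by omega) (by omega)
    have n := nh _ hKM (by omega) (by omega) (by omega) (by omega)
    omega
  · have n := nh _ hKM (by omega) (by omega) (by omega) (by omega)
    omega

omit [IsAlgClosed k] [IsIntegral X] [IsProper (X ↘ Spec (CommRingCat.of k))] [Smooth (X ↘ Spec (CommRingCat.of k))] in
/-- Independent sections as many as possible span. -/
theorem exists_coeff_of_le {W M : X.Modules} [Module.Finite k (Coh.HH X M 0)] (ι : M ⟶ W) {m : ℕ}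
    {w : Fin m → LinSer.Sect X W} (hw : LinSer.LinIndep k X W w)
    (hv : ∀ j, ∃ v : LinSer.Sect X M, (ι.val.app (op ⊤)).hom v = w j)
    (hm : Module.finrank k (Coh.HH X M 0) ≤ m) (v : LinSer.Sect X M) :
    ∃ a : Fin m → k, (ι.val.app (op ⊤)).hom v = ∑ j, (Coh.toGlobal (X ↘ Spec (CommRingCat.of k)) (a j)) • w j := by
  choose u hu using hv
  have key : ∀ c : Fin m → k, hh0 W (hmap k ι 0 (∑ j, c j • (hh0 M).symm (u j))) =
      ∑ j, (Coh.toGlobal (X ↘ Spec (CommRingCat.of k)) (c j)) • w j := fun c => by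
    rw [map_sum, map_sum]
    refine Finset.sum_congr rfl fun i _ => ?_
    rw [map_smul]
    refine (hh0_smul (M := W) _ _).trans ?_
    rw [hh0_hmap]
    refine congrArg (fun z => (show Γ(X, ⊤) from Coh.toGlobal (X ↘ Spec (CommRingCat.of k)) (c i)) • z) ?_
    exact (congrArg (fun z => (ι.app ⊤) z) ((hh0 M).apply_symm_apply (u i))).trans (hu i)
  have hli : LinearIndependent k fun j => (hh0 M).symm (u j) :=
    Fintype.linearIndependent_iff.2 fun c hc => congrFun (hw c ((key c).symm.trans (by rw [hc]; exact (congrArg (hh0 W) (map_zero _)).trans (map_zero _))))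
  have hcard : Fintype.card (Fin m) = Module.finrank k (Coh.HH X M 0) :=
    le_antisymm hli.fintype_card_le_finrank (by simpa using hm)
  have hmem : (hh0 M).symm v ∈ Submodule.span k (Set.range fun j => (hh0 M).symm (u j)) := by
    rw [hli.span_eq_top_of_card_eq_finrank' hcard]; trivial
  obtain ⟨a, ha⟩ := (Submodule.mem_span_range_iff_exists_fun k).1 hmem
  refine ⟨a, ?_⟩
  rw [← key a, ha, hh0_hmap]
  exact congrArg (fun z => (ι.app ⊤) z) ((hh0 M).apply_symm_apply v).symm

end Groth.Agent.Cliff17
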